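import Cfsg.Agent.Lib.Block.PrimeTI.Rank
import Cfsg.Agent.Lib.Block.LatticeRed
import Cfsg.Agent.Lib.Block.Omega

/-!
A real character of degree at most `p + 1` with zero sum on `P E`, where `E` has odd order prime to
`p` and normalizes `P`, has every sum over a coset of `P` congruent to zero.
-/

set_option autoImplicit false
set_option linter.unusedSectionVars false

namespace CfsgLib.Block.PrimeTI

open Cfsg CfsgLib CfsgLib.Block Matrix

universe u

variable {G : Type u} [Group G] [Finite G] {p : ℕ} [Fact p.Prime] {M : Ideal AlgInt} [M.IsPrime]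

/-- The sum of the elements of a subgroup of order `p`, reduced, has small rank. -/
theorem mul_rank_sum_le (hM : IsPModular p M) {n : ℕ}
    (X : G →* Matrix (Fin n) (Fin n) (lring M)) (Q : Subgroup G) [Fintype Q] (hQ : Nat.card Q = p) :
    p * ((∑ u : Q, X u).map (red M)).rank ≤ n := by
  classical
  haveI : (lideal M).IsMaximal := inferInstance
  letI := Ideal.Quotient.field (lideal M)
  haveI := charP_kres hM (M := M)
  obtain ⟨y, hy⟩ := (isCyclic_of_prime_card hQ).exists_generator
  have hyo : orderOf y = p := (orderOf_eq_card_of_forall_mem_zpowers hy).trans hQ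
  let R : G →* Matrix (Fin n) (Fin n) (kres M) := (red M).mapMatrix.toMonoidHom.comp X
  have hsum : (∑ u : Q, X u).map (red M) = ∑ i ∈ Finset.range p, R (y : G) ^ i := by
    rw [← RingHom.mapMatrix_apply, map_sum]
    refine (Finset.sum_bij (fun i _ => y ^ i) (fun i _ => Finset.mem_univ _) ?_ ?_ ?_).symm
    · intro i hi j hj h
      rw [Finset.mem_range, ← hyo] at hi hj
      exact pow_injOn_Iio_orderOf hi hj h
    · intro u _
      obtain ⟨j, hj⟩ := (mem_powers_iff_mem_zpowers.2 (hy u) : u ∈ Submonoid.powers y)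
      exact ⟨j % p, Finset.mem_range.2 (Nat.mod_lt _ (Fact.out : p.Prime).pos),
        by rw [← hyo, pow_mod_orderOf]; exact hj⟩
    · intro i _
      rw [← map_pow]; rfl
  rw [hsum, geom_sum_char (K := kres M)]
  exact mul_rank_pow_le _ (sub_one_pow_char (K := kres M) (by
    rw [← map_pow, ← SubgroupClass.coe_pow, ← hyo, pow_orderOf_eq_one]; exact map_one R))

/-- The sums over cosets of `P` vanish modulo `M`. -/
theorem coset_sum_mem (hM : IsPModular p M) {η : G → ℂ} (hη : IsCharacter G η)
    (Q E : Subgroup G) [Fintype Q] [Fintype E] (hQ : Nat.card Q = p)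
    (hEN : E ≤ Subgroup.normalizer (Q : Set G)) (hdisj : ∀ a ∈ E, a ∈ Q → a = 1)
    (hodd : Odd (Nat.card E)) (hpE : ¬ p ∣ Nat.card E) (hdeg : charDegree η ≤ p + 1)
    (hreal : ∀ g, η g⁻¹ = η g) (hzero : ∑ a : E, ∑ u : Q, η ((a : G) * (u : G)) = 0) (g : G) :
    MemLocalIdeal M (∑ u : Q, η (g * (u : G))) := by
  classical
  haveI : (lideal M).IsMaximal := inferInstance
  letI := Ideal.Quotient.field (lideal M)
  have hp := (Fact.out : p.Prime)
  obtain ⟨d, hd, X, hX⟩ : ∃ (d : ℕ), d = charDegree η ∧
      ∃ X : G →* Matrix (Fin d) (Fin d) (lring M), ∀ g, η g = ((X g).map (lring M).subtype).trace :=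
    ⟨_, rfl, SmallBlock.exists_local_rep hM hη⟩
  rw [← hd] at hdeg
  set S : Matrix (Fin d) (Fin d) (lring M) := ∑ u : Q, X u with hS
  let R : G →* Matrix (Fin d) (Fin d) (kres M) := (red M).mapMatrix.toMonoidHom.comp X
  set S' := S.map (red M) with hS'
  have hrk : S'.rank ≤ 1 := by
    have h := mul_rank_sum_le hM X Q hQ
    by_contra h2
    push Not at h2
    have : p * 2 ≤ p * S'.rank := Nat.mul_le_mul_left _ h2
    have := hp.two_le
    simp only [← hS, ← hS'] at h
    omega
  have hRX : ∀ x, R x = (X x).map (red M) := fun x => rfl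
  have htr : ∀ A : Matrix (Fin d) (Fin d) (lring M),
      (A.map (lring M).subtype).trace = ((A.trace : lring M) : ℂ) := fun A => by
    simp [Matrix.trace, Matrix.diag]
  -- the reduced coset sums
  have hT : ∀ x : G, (R x * S').trace = redC M (∑ u : Q, η (x * (u : G))) := by
    intro x
    rw [Finset.sum_congr rfl fun (u : Q) _ => (hX (x * (u : G))).trans (htr _), ← AddSubmonoidClass.coe_finsetSum,
      redC_coe, ← Matrix.trace_sum, hRX, hS', ← Matrix.map_mul, hS, Finset.mul_sum]
    simp only [map_mul]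
    simp [Matrix.trace, Matrix.diag, map_sum]
  have hmem : ∀ x : G, MemLocalRing M (∑ u : Q, η (x * (u : G))) := fun x =>
    memLocalRing_sum _ _ fun (u : Q) _ => by rw [hX, htr]; exact (X (x * (u : G))).trace.2
  rw [← redC_eq_zero_iff (hmem g), ← hT g]
  by_contra hne
  -- conjugation by `E` fixes the sum
  have hcomm : ∀ a : E, R (a : G) * S' = S' * R (a : G) := by
    intro a
    have h : X (a : G) * S = S * X (a : G) := by
      rw [hS, Finset.mul_sum, Finset.sum_mul]
      refine Fintype.sum_bijective (fun u : Q => (⟨(a : G) * u * (a : G)⁻¹,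
        (Subgroup.mem_normalizer_iff.1 (hEN a.2) u).1 u.2⟩ : Q)) ?_ _ _ fun u => ?_
      · refine Finite.injective_iff_bijective.1 fun u v huv => Subtype.ext ?_
        simpa using congrArg Subtype.val huv
      · rw [← map_mul, ← map_mul, inv_mul_cancel_right]
    have h' := congrArg (fun A => A.map (red M)) h
    simpa only [Matrix.map_mul, ← hRX, ← hS'] using h'
  -- it acts by scalars
  have hS0 : S' ≠ 0 := fun h => hne (by rw [h, mul_zero, Matrix.trace_zero])
  set W := LinearMap.range (Matrix.mulVecLin S') with hW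
  have hW1 : Module.finrank (kres M) W = 1 := by
    refine le_antisymm hrk (Nat.pos_of_ne_zero fun h0 => hS0 ?_)
    rw [Submodule.finrank_eq_zero, hW, LinearMap.range_eq_bot] at h0
    exact Matrix.ext_of_mulVec_single fun i => by
      rw [Matrix.zero_mulVec]; exact LinearMap.congr_fun h0 _
  obtain ⟨⟨v, hv⟩, hv0, hspan⟩ := finrank_eq_one_iff'.1 hW1
  have hv0' : v ≠ 0 := fun h => hv0 (Subtype.ext h)
  have hscal : ∀ a : E, ∃ c : kres M, R (a : G) * S' = c • S' := by
    intro a
    obtain ⟨w, hw⟩ := id hv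
    obtain ⟨c, hc⟩ := hspan ⟨(R (a : G)).mulVec v, by
      refine ⟨(R (a : G)).mulVec w, ?_⟩
      rw [← hw, Matrix.mulVecLin_apply, Matrix.mulVecLin_apply, Matrix.mulVec_mulVec,
        Matrix.mulVec_mulVec, hcomm]⟩
    refine ⟨c, Matrix.ext_of_mulVec_single fun i => ?_⟩
    obtain ⟨b, hb⟩ := hspan ⟨S'.mulVec (Pi.single i 1), LinearMap.mem_range_self (Matrix.mulVecLin S') _⟩
    have hb' : b • v = S'.mulVec (Pi.single i 1) := congrArg Subtype.val hb
    have hc' : c • v = (R (a : G)).mulVec v := congrArg Subtype.val hc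
    rw [← Matrix.mulVec_mulVec, Matrix.smul_mulVec, ← hb', Matrix.mulVec_smul, ← hc', smul_comm]
  choose c hc using hscal
  -- with either sign
  have hleft : ∀ a : E, (R (g * (a : G)) * S').trace = c a * (R g * S').trace := fun a => by
    rw [map_mul, mul_assoc, hc, Matrix.mul_smul, Matrix.trace_smul, smul_eq_mul]
  have hflip : ∀ x : G, (R x * S').trace = (S' * R x⁻¹).trace := fun x => by
    rw [Matrix.trace_mul_comm S', hT, hT]
    congr 1
    have key : ∀ u : Q, η (x⁻¹ * (u : G)) = η (x * ((u⁻¹ : Q) : G)) := fun u => by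
      rw [← hreal, _root_.mul_inv_rev, inv_inv, InvMemClass.coe_inv]
      obtain ⟨n, ρ, rfl⟩ := hη
      exact ρ.char_mul_comm _ _
    rw [Finset.sum_congr rfl fun u _ => key u]
    exact (Equiv.sum_comp (Equiv.inv Q) (fun u : Q => η (x * (u : G)))).symm
  have hright : ∀ a : E, (R (g * (a : G)) * S').trace = c a⁻¹ * (R g * S').trace := fun a => by
    rw [hflip, _root_.mul_inv_rev, map_mul, ← mul_assoc, ← InvMemClass.coe_inv, ← hcomm, hc, Matrix.smul_mul,
      Matrix.trace_smul, smul_eq_mul, ← hflip]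
  have hcmul : ∀ a b : E, c (a * b) = c a * c b := by
    intro a b
    have h := hc (a * b)
    rw [Subgroup.coe_mul, map_mul, mul_assoc, hc b, Matrix.mul_smul, hc a, smul_smul, mul_comm] at h
    exact (smul_left_injective (kres M) hS0 h).symm
  have hc1 : c 1 = 1 := by
    have h := hc 1
    rw [OneMemClass.coe_one, map_one, one_mul] at h
    exact (smul_left_injective (kres M) hS0 (h.symm.trans (one_smul _ S').symm))
  have hone : ∀ a : E, c a = 1 := by
    intro a
    have h1 : c a = c a⁻¹ := mul_right_cancel₀ hne ((hleft a).symm.trans (hright a))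
    have h2 : c a * c a = 1 := by
      nth_rewrite 2 [h1]
      rw [← hcmul, mul_inv_cancel, hc1]
    let f : E →* kres M := ⟨⟨c, hc1⟩, hcmul⟩
    have h3 : c a ^ Nat.card E = 1 := by
      show f a ^ _ = 1
      rw [← map_pow, pow_card_eq_one', map_one]
    obtain ⟨k, hk⟩ := hodd
    rw [hk, pow_succ, pow_mul, pow_two, h2, one_pow, one_mul] at h3
    exact h3
  -- the sum over `E Q` vanishes
  set F : Matrix (Fin d) (Fin d) (lring M) := (∑ a : E, X (a : G)) * S with hF
  have hFred : F.map (red M) = (Nat.card E : kres M) • S' := by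
    rw [hF, Matrix.map_mul, ← hS', ← RingHom.mapMatrix_apply, map_sum, Finset.sum_mul,
      Finset.sum_congr rfl fun (a : E) _ => show (red M).mapMatrix (X (a : G)) * S' = S' by
        have h := hc a
        rw [hone, one_smul] at h
        exact h, Finset.sum_const, Finset.card_univ, ← Nat.card_eq_fintype_card, Nat.cast_smul_eq_nsmul]
  have hSS : S * S = (p : lring M) • S := by
    rw [hS, Finset.sum_mul, Finset.sum_congr rfl fun (u : Q) _ => show X (u : G) * ∑ v : Q, X (v : G) =
        ∑ v : Q, X (v : G) by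
      rw [Finset.mul_sum]
      exact Fintype.sum_equiv (Equiv.mulLeft u) _ _ fun v => by simp, Finset.sum_const,
      Finset.card_univ, ← Nat.card_eq_fintype_card, hQ, Nat.cast_smul_eq_nsmul]
  have hEE : (∑ a : E, X (a : G)) * ∑ a : E, X (a : G) = (Nat.card E : lring M) • ∑ a : E, X (a : G) := by
    rw [Finset.sum_mul, Finset.sum_congr rfl fun (a : E) _ => show X (a : G) * ∑ b : E, X (b : G) =
        ∑ b : E, X (b : G) by
      rw [Finset.mul_sum]
      exact Fintype.sum_equiv (Equiv.mulLeft a) _ _ fun v => by simp, Finset.sum_const,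
      Finset.card_univ, ← Nat.card_eq_fintype_card, Nat.cast_smul_eq_nsmul]
  have hES : S * (∑ a : E, X (a : G)) = (∑ a : E, X (a : G)) * S := by
    rw [Finset.mul_sum, Finset.sum_mul]
    refine Finset.sum_congr rfl fun a _ => ?_
    rw [hS, Finset.mul_sum, Finset.sum_mul]
    refine (Fintype.sum_bijective (fun u : Q => (⟨(a : G) * u * (a : G)⁻¹,
        (Subgroup.mem_normalizer_iff.1 (hEN a.2) u).1 u.2⟩ : Q)) ?_ _ _ fun u => ?_).symm
    · refine Finite.injective_iff_bijective.1 fun u v huv => Subtype.ext ?_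
      simpa using congrArg Subtype.val huv
    · rw [← map_mul, ← map_mul, inv_mul_cancel_right]
  have hFF : F * F = ((p : lring M) * (Nat.card E : lring M)) • F := by
    rw [hF, mul_assoc, ← mul_assoc S, hES, mul_assoc, hSS, Matrix.mul_smul, Matrix.mul_smul,
      ← mul_assoc, hEE, Matrix.smul_mul, smul_smul]
  set FC := F.map (lring M).subtype with hFC
  have hFC0 : FC = 0 := by
    have hz : ((p : ℂ) * (Nat.card E : ℂ)) ≠ 0 :=
      mul_ne_zero (Nat.cast_ne_zero.2 hp.ne_zero) (Nat.cast_ne_zero.2 Nat.card_pos.ne')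
    have h1 : FC * FC = ((p : ℂ) * (Nat.card E : ℂ)) • FC := by
      rw [hFC, ← Matrix.map_mul, hFF]
      ext i j; simp
    set Pz := ((p : ℂ) * (Nat.card E : ℂ))⁻¹ • FC
    have h2 : Pz * Pz = Pz := by
      simp only [Pz]
      rw [Matrix.smul_mul, Matrix.mul_smul, h1, smul_smul, smul_smul, mul_assoc, inv_mul_cancel₀ hz, mul_one]
    have h3 : FC.trace = 0 := by
      rw [hFC, htr, hF, hS, Finset.sum_mul_sum, Matrix.trace_sum, AddSubmonoidClass.coe_finsetSum, ← hzero]
      refine Finset.sum_congr rfl fun a _ => ?_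
      rw [Matrix.trace_sum, AddSubmonoidClass.coe_finsetSum]
      exact Finset.sum_congr rfl fun u _ => by rw [← map_mul, hX, htr]
    have h4 := trace_idem h2
    rw [Matrix.trace_smul, h3, smul_zero] at h4
    have h5 : Pz.rank = 0 := by exact_mod_cast h4.symm
    rw [Matrix.rank, Submodule.finrank_eq_zero, LinearMap.range_eq_bot] at h5
    have h6 : Pz = 0 := Matrix.ext_of_mulVec_single fun i => by
      rw [Matrix.zero_mulVec]; exact LinearMap.congr_fun h5 _
    exact (smul_eq_zero.1 h6).resolve_left (inv_ne_zero hz)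
  have hF0 : F = 0 := Matrix.map_injective Subtype.val_injective (hFC0.trans (by ext i j; simp))
  rw [hF0, Matrix.map_zero _ (map_zero _)] at hFred
  haveI := charP_kres hM (M := M)
  exact hS0 ((smul_eq_zero.1 hFred.symm).resolve_left fun h => hpE ((CharP.cast_eq_zero_iff (kres M) p _).1 h))

end CfsgLib.Block.PrimeTI
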