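import Cfsg.Agent.Lib.Char.LinearSum
import Cfsg.Agent.Lib.BlockB.DetCalculus

/-!
The linear characters of a finite abelian group: orthogonality, the product of all of them for a
cyclic group, and determinants of combinations of them.
-/

set_option autoImplicit false
set_option linter.unusedSectionVars false

namespace CfsgLib.Block.PrimeTI

open CfsgLib

universe u

variable {A : Type u} [Group A] [Finite A] [IsMulCommutative A] [Fintype (A →* ℂˣ)]

theorem commutator_eq_bot' : commutator A = ⊥ :=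
  (commutator_eq_bot_iff_center_eq_top A).2
    (Subgroup.eq_top_iff' _ |>.2 fun x => Subgroup.mem_center_iff.2 fun y => mul_comm' y x)

theorem card_dual : Fintype.card (A →* ℂˣ) = Nat.card A := by
  rw [← Nat.card_eq_fintype_card, Char.natCard_linear, commutator_eq_bot', Subgroup.index_bot]

theorem sum_dual_apply (a : A) :
    ∑ l : A →* ℂˣ, (l a : ℂ) = open Classical in if a = 1 then (Nat.card A : ℂ) else 0 := by
  classical
  rw [Char.sum_linear_apply a, commutator_eq_bot', Subgroup.index_bot]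
  simp only [Subgroup.mem_bot]

theorem sum_dual_erase_apply [DecidableEq (A →* ℂˣ)] {a : A} (ha : a ≠ 1) :
    ∑ l ∈ (Finset.univ : Finset (A →* ℂˣ)).erase 1, (l a : ℂ) = -1 := by
  classical
  rw [Finset.sum_erase_eq_sub (Finset.mem_univ _), sum_dual_apply, if_neg ha]
  simp

theorem sum_apply_eq [Fintype A] (l : A →* ℂˣ) [Decidable (l = 1)] :
    ∑ a : A, (l a : ℂ) = if l = 1 then (Nat.card A : ℂ) else 0 := by
  split_ifs with h
  · subst h; simp [Nat.card_eq_fintype_card]
  · obtain ⟨b, hb⟩ : ∃ b, l b ≠ 1 := by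
      by_contra hcon; push Not at hcon; exact h (MonoidHom.ext hcon)
    have hs : (l b : ℂ) * ∑ a : A, (l a : ℂ) = ∑ a : A, (l a : ℂ) := by
      rw [Finset.mul_sum]
      exact Fintype.sum_equiv (Equiv.mulLeft b) _ _ fun a => by simp
    have hb' : (l b : ℂ) ≠ 1 := fun e => hb (Units.ext e)
    exact (mul_left_eq_self₀.1 hs).resolve_left hb'

/-- Expansion of a function on the group by linear characters. -/
theorem expansion [Fintype A] (f : A → ℂ) (a : A) :
    ∑ l : A →* ℂˣ, ((Nat.card A : ℂ)⁻¹ * ∑ b : A, f b * (l b⁻¹ : ℂ)) * (l a : ℂ) = f a := by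
  classical
  simp only [Finset.mul_sum, Finset.sum_mul]
  rw [Finset.sum_comm, Finset.sum_eq_single a]
  · simp only [mul_assoc, ← Units.val_mul, ← map_mul, inv_mul_cancel, map_one, Units.val_one,
      mul_one, Finset.sum_const, Finset.card_univ, card_dual, nsmul_eq_mul]
    rw [← mul_assoc, mul_inv_cancel₀ (by exact_mod_cast Nat.card_pos.ne'), one_mul]
  · intro b _ hb
    simp only [mul_assoc, ← Finset.mul_sum, ← Units.val_mul, ← map_mul]
    rw [sum_dual_apply, if_neg fun h => hb (inv_mul_eq_one.1 h)]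
    simp
  · simp

theorem eq_inv_of_sq {l : A →* ℂˣ} {g : A} (h : l * l = 1) : (l g : ℂ) = 1 ∨ (l g : ℂ) = -1 := by
  have := congrArg (fun m : A →* ℂˣ => (m g : ℂ)) h
  simp only [MonoidHom.mul_apply, Units.val_mul, MonoidHom.one_apply, Units.val_one] at this
  exact mul_self_eq_one_iff.1 this

variable {g : A} (hg : ∀ x : A, x ∈ Subgroup.zpowers g)

include hg in
theorem ext_gen {l m : A →* ℂˣ} (h : (l g : ℂ) = (m g : ℂ)) : l = m := by
  refine MonoidHom.ext fun x => ?_
  obtain ⟨n, rfl⟩ := Subgroup.mem_zpowers_iff.1 (hg x)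
  rw [map_zpow, map_zpow, Units.ext h]

include hg in
/-- For a cyclic group of even order there is a character `-1` on a generator, and the product of all
characters is that character. -/
theorem exists_sign (heven : 2 ∣ Nat.card A) :
    ∃ ν : A →* ℂˣ, (ν g : ℂ) = -1 ∧ ν * ν = 1 ∧ ∏ l : A →* ℂˣ, l = ν := by
  classical
  obtain ⟨ν, hν⟩ := exists_prime_orderOf_dvd_card (G := A →* ℂˣ) 2 (by rw [card_dual]; exact heven)
  have hν2 : ν * ν = 1 := (pow_two ν).symm.trans (hν ▸ pow_orderOf_eq_one ν)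
  have hν1 : ν ≠ 1 := fun h => by rw [h, orderOf_one] at hν; omega
  have hg1 : (ν g : ℂ) = -1 := (eq_inv_of_sq hν2).resolve_left fun h =>
    hν1 (ext_gen hg (by rw [h]; simp))
  refine ⟨ν, hg1, hν2, ?_⟩
  have hsplit : ∏ l ∈ ((Finset.univ : Finset (A →* ℂˣ)).erase 1).erase ν, l = 1 := by
    refine Finset.prod_involution (fun l _ => l⁻¹) (fun l _ => mul_inv_cancel l) ?_ ?_
      (fun l _ => inv_inv l)
    · intro l hl _ h
      simp only [Finset.mem_erase] at hl
      have h2 : l * l = 1 := by nth_rewrite 1 [← h]; exact inv_mul_cancel l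
      rcases eq_inv_of_sq (g := g) h2 with e | e
      · exact hl.2.1 (ext_gen hg (by rw [e]; simp))
      · exact hl.1 (ext_gen hg (by rw [e, hg1]))
    · intro l hl
      simp only [Finset.mem_erase, Finset.mem_univ, and_true, ne_eq] at hl ⊢
      exact ⟨fun h => hl.1 (by rw [← inv_inv l, h]; exact inv_eq_of_mul_eq_one_right hν2),
        fun h => hl.2 ((inv_inv l).symm.trans ((congrArg (·⁻¹) h).trans
          (MonoidHom.ext fun a => by simp)))⟩
  have hmem : ν ∈ (Finset.univ : Finset (A →* ℂˣ)).erase 1 :=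
    Finset.mem_erase.2 ⟨hν1, Finset.mem_univ _⟩
  rw [← Finset.mul_prod_erase _ (fun l => l) (Finset.mem_univ 1),
    ← Finset.mul_prod_erase _ (fun l => l) hmem, hsplit]
  refine MonoidHom.ext fun a => ?_
  simp

theorem prod_dual_sq : (∏ l : A →* ℂˣ, l) * (∏ l : A →* ℂˣ, l) = 1 := by
  classical
  nth_rewrite 2 [← Fintype.prod_equiv (Equiv.inv (A →* ℂˣ)) (fun l => l⁻¹) (fun l => l) fun l => rfl]
  rw [← Finset.prod_mul_distrib]
  exact Finset.prod_eq_one fun l _ => mul_inv_cancel l

/-- The determinant of `n` copies of all characters plus one. -/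
theorem det_copies (n : ℕ) (μ : A →* ℂˣ) {f : A → ℂ}
    (hf : ∀ a, f a = (n : ℂ) * ∑ l : A →* ℂˣ, (l a : ℂ) + (μ a : ℂ)) :
    BlockB.DetCalculus.HasDet f ((∏ l : A →* ℂˣ, l) ^ n * μ) := by
  classical
  have h1 := (BlockB.DetCalculus.HasDet.sum (Finset.univ : Finset (A →* ℂˣ)) (f := fun l a => (l a : ℂ))
    (d := fun l => l) fun l _ => BlockB.DetCalculus.hasDet_linear l).nsmul n
  have h2 := h1.add (BlockB.DetCalculus.hasDet_linear μ)
  convert h2 using 1
  funext a
  simp [hf a, Finset.sum_apply]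

end CfsgLib.Block.PrimeTI
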