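import Cfsg.Agent.Lib.Block.PrimeTI.Transfer
import Cfsg.Agent.Lib.BlockB.ClassMul
import Cfsg.Agent.Lib.Char.Column
import Cfsg.Agent.Lib.Block.Omega

/-!
Products of two conjugates of an involution: the class multiplication count as a number of pairs.
-/

set_option autoImplicit false
set_option linter.unusedSectionVars false

namespace CfsgLib.Block.PrimeTI

open Cfsg CfsgLib CfsgLib.Block
open scoped ComplexConjugate

universe u

variable {G : Type u} [Group G] [Fintype G]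

/-- The character sum. -/
noncomputable def Tsum [Fintype (IrrCharacter G)] (z a : G) : ℂ :=
  ∑ χ : IrrCharacter G, (χ : G → ℂ) z * (χ : G → ℂ) z * (χ : G → ℂ) a / (χ : G → ℂ) 1

/-- The pairs. -/
noncomputable def pairSet (z a : G) : Finset (G × G) :=
  open Classical in
  Finset.univ.filter fun w => (w.1 * z * w.1⁻¹) * (w.2 * z * w.2⁻¹) = a⁻¹

theorem card_conjugators [DecidableEq G] {z : G} {g v : G} (h : g * z * g⁻¹ = v) :
    (Finset.univ.filter fun x : G => x * z * x⁻¹ = v).card =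
      Nat.card (Subgroup.centralizer ({z} : Set G)) := by
  classical
  rw [Nat.card_eq_fintype_card, Fintype.card_subtype]
  refine Finset.card_equiv (Equiv.mulLeft g⁻¹) fun x => ?_
  simp only [Finset.mem_filter, Finset.mem_univ, true_and, Equiv.coe_mulLeft,
    Subgroup.mem_centralizer_singleton_iff, ← h]
  constructor
  · intro e
    calc g⁻¹ * x * z = g⁻¹ * (x * z * x⁻¹) * x := by group
      _ = z * (g⁻¹ * x) := by rw [e]; group
  · intro e
    calc x * z * x⁻¹ = g * (g⁻¹ * x * z) * x⁻¹ := by group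
      _ = g * z * g⁻¹ := by rw [e]; group

theorem natCard_mul_Tsum [Fintype (IrrCharacter G)] (z a : G) :
    (Nat.card G : ℂ) * Tsum z a = ((pairSet z a).card : ℂ) := by
  classical
  set F : G → ℂ := fun g => ∑ χ : IrrCharacter G, (χ : G → ℂ) g * conj ((χ : G → ℂ) a⁻¹) with hF
  have hFval : ∀ g, F g = ((Finset.univ.filter fun x : G => x * a⁻¹ * x⁻¹ = g).card : ℂ) := by
    intro g
    show ∑ χ : IrrCharacter G, (χ : G → ℂ) g * conj ((χ : G → ℂ) a⁻¹) = _
    rw [Char.column_orthogonality g a⁻¹]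
    split_ifs with hg
    · obtain ⟨c, hc⟩ := isConj_iff.1 hg
      have hc' : c⁻¹ * a⁻¹ * c⁻¹⁻¹ = g := by rw [← hc]; group
      rw [card_conjugators hc']
      congr 1
      have h1 := Char.natCard_carrier_mul_centralizer g
      rw [ConjClasses.mk_eq_mk_iff_isConj.2 hg, ← Char.natCard_carrier_mul_centralizer a⁻¹] at h1
      exact Nat.eq_of_mul_eq_mul_left (by
        have : Nonempty (ConjClasses.mk a⁻¹).carrier := ⟨⟨a⁻¹, ConjClasses.mem_carrier_mk⟩⟩
        exact Nat.card_pos) h1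
    · rw [Finset.filter_false_of_mem fun x _ hx => hg (isConj_iff.2 ⟨x⁻¹, by rw [← hx]; group⟩),
        Finset.card_empty, Nat.cast_zero]
  have hsum : ∑ t : G, F (z * (t * z * t⁻¹)) = (Nat.card G : ℂ) * Tsum z a := by
    simp only [hF]
    rw [Finset.sum_comm, Tsum, Finset.mul_sum]
    refine Finset.sum_congr rfl fun χ _ => ?_
    rw [← Finset.sum_mul, BlockB.sum_irr_mul_conj, irr_conj_eq χ.2, inv_inv]
    ring
  rw [← hsum, Finset.sum_congr rfl fun t _ => hFval _, ← Nat.cast_sum]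
  congr 1
  rw [← Finset.card_sigma]
  refine Finset.card_bij' (fun (w : Σ _ : G, G) _ => (w.2⁻¹, w.2⁻¹ * w.1))
    (fun (w : G × G) _ => (⟨w.1⁻¹ * w.2, w.1⁻¹⟩ : Σ _ : G, G)) ?_ ?_ ?_ ?_
  · rintro ⟨t, x⟩ hx
    simp only [Finset.mem_sigma, Finset.mem_filter, Finset.mem_univ, true_and, pairSet] at hx ⊢
    calc x⁻¹ * z * x⁻¹⁻¹ * (x⁻¹ * t * z * (x⁻¹ * t)⁻¹) = x⁻¹ * (z * (t * z * t⁻¹)) * x := by group
      _ = a⁻¹ := by rw [← hx]; group
  · rintro ⟨g₁, g₂⟩ hw
    simp only [Finset.mem_sigma, Finset.mem_filter, Finset.mem_univ, true_and, pairSet] at hw ⊢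
    rw [← hw]; group
  · rintro ⟨t, x⟩ _; simp
  · rintro ⟨g₁, g₂⟩ _; simp

end CfsgLib.Block.PrimeTI
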