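import Cfsg.Agent.Lib.Block.PrimeTI.Family
import Cfsg.Agent.Lib.Block.PrimeTI.Pairs
import Cfsg.Agent.Lib.Block.BRTheorem
import Cfsg.Agent.Lib.Classical.SLTwoSylow

/-!
An even complement of order at least four: the normalizer is dihedral, all its outer elements are
conjugate to the involution of the complement, and the order of the group follows.
-/

set_option autoImplicit false
set_option linter.unusedSectionVars false

namespace CfsgLib.Block.PrimeTI

open Cfsg CfsgLib CfsgLib.Block BrauerReynolds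
open scoped ComplexConjugate

universe u

variable {G : Type u} [Group G] [Fintype G] {p : ℕ} [Fact p.Prime] {P : Sylow p G} {E : Subgroup G}
  {χ₀ : IrrCharacter G} {s : G}

variable [Fintype E] [IsMulCommutative E]

/-- A cyclic group has one involution. -/
theorem invol_unique (S : Setting p P E χ₀) {z b : E} (hz1 : z ≠ 1) (hzz : z * z = 1) (hb1 : b ≠ 1)
    (hbb : b * b = 1) : b = z := by
  classical
  haveI := S.cycE
  by_contra hne
  have hle := IsCyclic.card_pow_eq_one_le (α := E) (n := 2) two_pos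
  have hsub : ({1, z, b} : Finset E) ⊆ Finset.univ.filter fun x => x ^ 2 = 1 := by
    intro x hx
    simp only [Finset.mem_insert, Finset.mem_singleton] at hx
    refine Finset.mem_filter.2 ⟨Finset.mem_univ _, ?_⟩
    rcases hx with rfl | rfl | rfl
    · exact one_pow 2
    · rw [pow_two, hzz]
    · rw [pow_two, hbb]
  have h := (Finset.card_le_card hsub).trans hle
  rw [Finset.card_insert_of_notMem (by simp [Ne.symm hz1, Ne.symm hb1]),
    Finset.card_pair (Ne.symm hne)] at h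
  omega

/-- The involution of the complement. -/
theorem exists_invol (S : Setting p P E χ₀) (heven : 2 ∣ Nat.card E) : ∃ z : E, z ≠ 1 ∧ z * z = 1 := by
  obtain ⟨z, hz⟩ := exists_prime_orderOf_dvd_card' (G := E) 2 heven
  refine ⟨z, fun h => ?_, (pow_two z).symm.trans (hz ▸ pow_orderOf_eq_one z)⟩
  rw [h, orderOf_one] at hz
  omega

theorem conjE_invol (S : Setting p P E χ₀) (hs : Outer E s) {z : E} (hz1 : z ≠ 1) (hzz : z * z = 1) :
    conjE hs z = z :=
  invol_unique S hz1 hzz (fun h => hz1 (by rw [← conjE_conjE hs S.cardNE z, h, map_one]))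
    (by rw [← map_mul, hzz, map_one])

theorem centralizer_invol (S : Setting p P E χ₀) {z : E} (hz1 : z ≠ 1) (hzz : z * z = 1) :
    Subgroup.centralizer ({(z : G)} : Set G) = Subgroup.normalizer (E : Set G) := by
  refine le_antisymm (fun g hg => ?_) (fun g hg => ?_)
  · refine S.mem_of_conj z.2 (fun h => hz1 (Subtype.ext h)) ?_
    rw [Subgroup.mem_centralizer_singleton_iff.1 hg, mul_inv_cancel_right]
    exact z.2
  · refine Subgroup.mem_centralizer_singleton_iff.2 ?_
    by_cases hgE : g ∈ E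
    · exact sub_mul_comm hgE z.2
    have h : g * (z : G) * g⁻¹ = z := congrArg Subtype.val (conjE_invol S ⟨hg, hgE⟩ hz1 hzz)
    exact mul_inv_eq_iff_eq_mul.1 h

section

variable (S : Setting p P E χ₀) (hs : Outer E s) [Fintype (IrrCharacter G)] [Fintype (E →* ℂˣ)]
  {z : E} (hz1 : z ≠ 1) (hzz : z * z = 1)

/-- The weight of a linear character. -/
noncomputable def weight (χ₀ : IrrCharacter G) (z : E) (l : E →* ℂˣ) : ℂ :=
  open Classical in
  ∑ χ ∈ (Finset.univ.erase (one' : IrrCharacter G)).erase χ₀,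
    (coef l χ : ℂ) * ((χ : G → ℂ) z * (χ : G → ℂ) z / (χ : G → ℂ) 1)

include S hz1 in
theorem Tsum_eq {a : E} (ha : a ≠ 1) :
    Tsum (z : G) (a : G) = 1 + 1 / (p : ℂ) - ∑ l : E →* ℂˣ, (l a : ℂ) * weight χ₀ z l := by
  classical
  rw [Tsum, ← Finset.add_sum_erase _ _ (Finset.mem_univ (one' : IrrCharacter G)),
    ← Finset.add_sum_erase _ _ (Finset.mem_erase.2 ⟨(one_ne_chi S).symm, Finset.mem_univ χ₀⟩),
    one'_apply, one'_apply, one'_apply, S.valE _ z.2 (fun h => hz1 (Subtype.ext h)),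
    S.valE _ a.2 (fun h => ha (Subtype.ext h)), S.deg, one_mul, one_mul, div_one, ← add_assoc,
    sub_eq_add_neg, ← Finset.sum_neg_distrib]
  congr 1
  simp only [weight, Finset.mul_sum, ← Finset.sum_neg_distrib]
  rw [Finset.sum_comm]
  refine Finset.sum_congr rfl fun χ _ => ?_
  rw [value_eq χ ha, mul_neg, neg_div, Finset.sum_neg_distrib, neg_inj, Finset.mul_sum, Finset.sum_div]
  exact Finset.sum_congr rfl fun l _ => by ring

omit [Fintype (E →* ℂˣ)] in
theorem weight_one : weight χ₀ z (1 : E →* ℂˣ) = 0 := by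
  simp [weight, coef_one_left]

include S hs hz1 hzz in
theorem weight_free {l : E →* ℂˣ} (hl : l ≠ 1) (hfix : twin hs l ≠ l) :
    weight χ₀ z l = -4 / ((p : ℂ) + 1) := by
  classical
  obtain ⟨η, h1, h0, hd, hk, hother⟩ := exists_eta S hs hl hfix
  rw [weight, Finset.sum_eq_single_of_mem η
    (Finset.mem_erase.2 ⟨h0, Finset.mem_erase.2 ⟨h1, Finset.mem_univ _⟩⟩) fun χ hχ hne => by
      obtain ⟨hχ0, hχ'⟩ := Finset.mem_erase.1 hχ
      rw [hother χ (Finset.mem_erase.1 hχ').1 hχ0 hne, Int.cast_zero, zero_mul]]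
  have hz : (η : G → ℂ) z = 2 * (l z : ℂ) := by
    rw [value_eq η hz1, ← Finset.sum_subset (Finset.subset_univ {l, twin hs l}) fun m _ hm => by
      simp only [Finset.mem_insert, Finset.mem_singleton, not_or] at hm
      rw [coef_excl S hs h1 h0 (show coef l η ≠ 0 by rw [hk]; omega) hm.1 hm.2, Int.cast_zero, zero_mul],
      Finset.sum_pair (Ne.symm hfix), coef_twin hs S.cardNE, hk, twin_apply, conjE_invol S hs hz1 hzz]
    push_cast; ring
  have h2 : (l z : ℂ) * (l z : ℂ) = 1 := by rw [← Units.val_mul, ← map_mul, hzz, map_one, Units.val_one]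
  have hη1 : (η : G → ℂ) 1 = (p : ℂ) + 1 := by rw [← BlockB.irr_degree_cast η, hd]; push_cast; rfl
  rw [hk, hz, hη1]
  have h4 : 2 * (l z : ℂ) * (2 * (l z : ℂ)) = 4 := by linear_combination 4 * h2
  rw [h4]
  push_cast; ring

include S hs hz1 hzz in
theorem norm_weight_fixed {l : E →* ℂˣ} (hl : l ≠ 1) (hfix : twin hs l = l) :
    ‖weight χ₀ z l‖ ≤ 2 / (Nat.card E : ℝ) := by
  classical
  obtain ⟨A, B, hAB, hA1, hA0, hB1, hB0, hkA, hkB, hdeg, hother⟩ := exists_pair S hs hl hfix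
  have hR : ∀ χ : IrrCharacter G, χ ≠ one' → χ ≠ χ₀ →
      χ ∈ (Finset.univ.erase (one' : IrrCharacter G)).erase χ₀ := fun χ a b =>
    Finset.mem_erase.2 ⟨b, Finset.mem_erase.2 ⟨a, Finset.mem_univ _⟩⟩
  -- one constituent
  have key : ∀ χ : IrrCharacter G, χ ≠ one' → χ ≠ χ₀ → coef l χ * coef l χ = 1 →
      ((coef l χ : ℂ) * ((χ : G → ℂ) z * (χ : G → ℂ) z / (χ : G → ℂ) 1) =
          ((((coef l χ * (charDegree (χ : G → ℂ) : ℤ) : ℤ) : ℝ)⁻¹ : ℝ) : ℂ)) ∧
        (Nat.card E : ℤ) ∣ coef l χ * (charDegree (χ : G → ℂ) : ℤ) + 1 ∧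
        coef l χ * (charDegree (χ : G → ℂ) : ℤ) ≠ -1 := by
    intro χ h1 h0 hk
    have hne : coef l χ ≠ 0 := fun e => by rw [e] at hk; omega
    have hex : ∀ m : E →* ℂˣ, m ≠ l → coef m χ = 0 := fun m hm =>
      coef_excl S hs h1 h0 hne hm (by rw [hfix]; exact hm)
    have h2 : (l z : ℂ) * (l z : ℂ) = 1 := by
      rw [← Units.val_mul, ← map_mul, hzz, map_one, Units.val_one]
    have hkC : (coef l χ : ℂ) * (coef l χ : ℂ) = 1 := by exact_mod_cast hk
    refine ⟨?_, ?_, ?_⟩
    · have hv : (χ : G → ℂ) z = -((coef l χ : ℂ) * (l z : ℂ)) := by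
        rw [value_eq χ hz1, Finset.sum_eq_single l (fun m _ hm => by rw [hex m hm, Int.cast_zero, zero_mul])
          (fun h => absurd (Finset.mem_univ l) h)]
      rw [hv, neg_mul_neg, show (coef l χ : ℂ) * (l z : ℂ) * ((coef l χ : ℂ) * (l z : ℂ)) = 1 by
        linear_combination ((l z : ℂ) * (l z : ℂ)) * hkC + h2, ← BlockB.irr_degree_cast χ]
      push_cast
      rw [mul_inv, inv_eq_of_mul_eq_one_right hkC, one_div]
    · have h := degree_dvd (E := E) χ
      rw [Finset.sum_eq_single l (fun m _ hm => hex m hm) (fun h => absurd (Finset.mem_univ l) h)] at h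
      have := h.mul_left (coef l χ)
      rwa [mul_add, hk] at this
    · intro he
      have hd1 : charDegree (χ : G → ℂ) = 1 := by
        have h3 := congrArg Int.natAbs he
        rw [Int.natAbs_mul, Int.natAbs_natCast, Int.natAbs_neg, Int.natAbs_one] at h3
        exact Nat.eq_one_of_mul_eq_one_left h3
      refine h1 (Subtype.ext (eq_one_of_degree_one S.perf χ ?_))
      rw [← BlockB.irr_degree_cast χ, hd1, Nat.cast_one]
  obtain ⟨vA, dvA, neA⟩ := key A hA1 hA0 hkA
  obtain ⟨vB, dvB, neB⟩ := key B hB1 hB0 hkB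
  rw [weight, ← Finset.add_sum_erase _ _ (hR A hA1 hA0),
    ← Finset.add_sum_erase _ _ (Finset.mem_erase.2 ⟨hAB.symm, hR B hB1 hB0⟩),
    Finset.sum_eq_zero (fun χ hχ => by
      obtain ⟨hχB, hχ'⟩ := Finset.mem_erase.1 hχ
      obtain ⟨hχA, hχR⟩ := Finset.mem_erase.1 hχ'
      obtain ⟨hχ0, hχ1⟩ := Finset.mem_erase.1 hχR
      rw [hother χ (Finset.mem_erase.1 hχ1).1 hχ0 hχA hχB, Int.cast_zero, zero_mul]), add_zero,
    vA, vB, ← Complex.ofReal_add, Complex.norm_real, Real.norm_eq_abs]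
  set A' := coef l A * (charDegree (A : G → ℂ) : ℤ)
  set B' := coef l B * (charDegree (B : G → ℂ) : ℤ)
  set e := Nat.card E with he
  have he2 : 2 ≤ e := S.two_le
  -- each of them is far from zero
  have hfar : ∀ x : ℤ, (e : ℤ) ∣ x + 1 → x ≠ -1 → (e : ℤ) - 1 ≤ x ∨ x ≤ -((e : ℤ) + 1) := by
    rintro x ⟨k, hk⟩ hx
    rcases lt_trichotomy k 0 with h | h | h
    · right
      have : (e : ℤ) * k ≤ (e : ℤ) * (-1) := mul_le_mul_of_nonneg_left (by omega) (by omega)
      omega
    · subst h; omega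
    · left
      have : (e : ℤ) * 1 ≤ (e : ℤ) * k := mul_le_mul_of_nonneg_left (by omega) (by omega)
      omega
  have hpos : (0 : ℝ) < (e : ℝ) := by exact_mod_cast (show 0 < e by omega)
  have hlo : ∀ x : ℤ, (e : ℤ) ∣ x + 1 → x ≠ -1 →
      -(1 / (e : ℝ)) ≤ (x : ℝ)⁻¹ ∧ (x : ℝ)⁻¹ ≤ 2 / (e : ℝ) := by
    intro x hx hx1
    rcases hfar x hx hx1 with h | h
    · have hxpos : (1 : ℤ) ≤ x := by omega
      have h2 : (e : ℤ) ≤ 2 * x := by omega
      have hxR : (0 : ℝ) < x := by exact_mod_cast hxpos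
      have h2R : (e : ℝ) ≤ 2 * (x : ℝ) := by exact_mod_cast h2
      refine ⟨le_trans (neg_nonpos.2 (div_nonneg zero_le_one hpos.le)) (inv_nonneg.2 hxR.le), ?_⟩
      rw [inv_eq_one_div, div_le_div_iff₀ hxR hpos]
      linarith
    · have h2 : (e : ℤ) ≤ -x := by omega
      have h2R : (e : ℝ) ≤ -(x : ℝ) := by exact_mod_cast h2
      have hxR : (x : ℝ) < 0 := by linarith
      refine ⟨?_, le_trans (inv_nonpos.2 hxR.le) (div_nonneg two_pos.le hpos.le)⟩
      have h3 : (-(x : ℝ))⁻¹ ≤ 1 / (e : ℝ) := by rw [one_div]; exact inv_anti₀ hpos h2R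
      rw [inv_neg] at h3
      linarith
  have hneg : A' ≤ 0 ∨ B' ≤ 0 := by omega
  obtain ⟨lA, uA⟩ := hlo A' dvA neA
  obtain ⟨lB, uB⟩ := hlo B' dvB neB
  have h12 : 1 / (e : ℝ) + 1 / (e : ℝ) = 2 / (e : ℝ) := by ring
  rw [abs_le]
  refine ⟨by linarith, ?_⟩
  rcases hneg with h | h
  · have : (A' : ℝ)⁻¹ ≤ 0 := inv_nonpos.2 (by exact_mod_cast h)
    linarith
  · have : (B' : ℝ)⁻¹ ≤ 0 := inv_nonpos.2 (by exact_mod_cast h)
    linarith

include S hs hz1 hzz in
/-- Some generator of the complement is a product of two conjugates of the involution. -/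
theorem exists_inverting {c : E} (hc : ∀ x : E, x ∈ Subgroup.zpowers c) (hc2 : c * c ≠ 1)
    (hmove : ∃ a : E, conjE hs a ≠ a) :
    ∃ v, v ∈ Subgroup.normalizer (E : Set G) ∧ v ∉ E ∧ IsConj (z : G) v ∧ v * c * v⁻¹ = (c : G)⁻¹ ∧
      IsConj (z : G) (v * (c : G)⁻¹) := by
  classical
  have hp := (Fact.out : p.Prime)
  have hc1 : c ≠ 1 := fun h => hc2 (by rw [h, one_mul])
  set e := Nat.card E with he
  have heven : 2 ∣ e := by
    have h := orderOf_dvd_natCard z
    rwa [orderOf_eq_prime (p := 2) ((pow_two z).trans hzz) hz1] at h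
  set F := (Finset.univ : Finset (E →* ℂˣ)).filter fun l => twin hs l = l with hF
  have hmul : ∀ l m : E →* ℂˣ, twin hs (l * m) = twin hs l * twin hs m := fun l m => rfl
  -- at most half of the characters are fixed
  have hFle : F.card * 2 ≤ e := by
    obtain ⟨FS, hFS⟩ : ∃ FS : Subgroup (E →* ℂˣ), ∀ l, l ∈ FS ↔ twin hs l = l :=
      ⟨{ carrier := {l | twin hs l = l}
         one_mem' := MonoidHom.ext fun a => rfl
         mul_mem' := fun {l m} hl hm => by
          simp only [Set.mem_setOf_eq] at hl hm ⊢; rw [hmul, hl, hm]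
         inv_mem' := fun {l} hl => by
          simp only [Set.mem_setOf_eq] at hl ⊢
          exact MonoidHom.ext fun a => congrArg (fun t : ℂˣ => t⁻¹) (DFunLike.congr_fun hl a) },
        fun l => Iff.rfl⟩
    have hcard : Nat.card FS = F.card := by
      rw [hF, ← Fintype.card_subtype, ← Nat.card_eq_fintype_card]
      exact Nat.card_congr (Equiv.subtypeEquivRight hFS)
    have hne : FS.index ≠ 1 := by
      rw [Ne, Subgroup.index_eq_one]
      intro htop
      obtain ⟨a, ha⟩ := hmove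
      have hall : ∀ l : E →* ℂˣ, twin hs l = l := fun l =>
        (hFS l).1 (htop ▸ Subgroup.mem_top l)
      have h := sum_dual_apply (a⁻¹ * conjE hs a)
      rw [if_neg fun h => ha (inv_mul_eq_one.1 h).symm, Finset.sum_congr rfl fun l _ => show
        ((l (a⁻¹ * conjE hs a) : ℂˣ) : ℂ) = 1 by
          rw [map_mul, ← twin_apply hs l a, hall l, map_inv, inv_mul_cancel, Units.val_one],
        Finset.sum_const, Finset.card_univ, card_dual, nsmul_eq_mul, mul_one, Nat.cast_eq_zero] at h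
      exact Nat.card_pos.ne' h
    have h := FS.card_mul_index
    rw [hcard, Nat.card_eq_fintype_card, card_dual] at h
    have h0 : FS.index ≠ 0 := Subgroup.index_ne_zero_of_finite
    calc F.card * 2 ≤ F.card * FS.index := Nat.mul_le_mul_left _ (by omega)
      _ = e := h
  -- the fixed characters sum to zero at the generator
  obtain ⟨ν, hν, hν2, -⟩ := exists_sign hc heven
  have hν1 : ν ≠ 1 := fun h => by rw [h] at hν; simp at hν; norm_num at hν
  have hνF : twin hs ν = ν := by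
    refine ext_gen hc ?_
    rw [hν]
    refine (eq_inv_of_sq (g := c) (l := twin hs ν) (by rw [← hmul, hν2]; rfl)).resolve_left fun h => ?_
    exact twin_ne_one hs S.cardNE hν1 (ext_gen hc (by rw [h]; simp))
  have hFsum : ∑ l ∈ F, (l c : ℂ) = 0 := by
    have h : ∑ l ∈ F, (l c : ℂ) = ∑ l ∈ F, -(l c : ℂ) := by
      refine Finset.sum_equiv (Equiv.mulLeft ν) (fun l => ?_) fun l _ => ?_
      · simp only [hF, Finset.mem_filter, Finset.mem_univ, true_and, Equiv.coe_mulLeft, hmul, hνF,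
          mul_right_inj]
      · rw [Equiv.coe_mulLeft, MonoidHom.mul_apply, Units.val_mul, hν]; ring
    rw [Finset.sum_neg_distrib] at h
    linear_combination h / 2
  -- hence the character sum does not vanish
  have hT : Tsum (z : G) (c : G) ≠ 0 := by
    intro h0
    rw [Tsum_eq S hz1 hc1, ← Finset.sum_filter_add_sum_filter_not Finset.univ (fun l => twin hs l = l),
      ← hF] at h0
    have hfree : ∑ l ∈ (Finset.univ : Finset (E →* ℂˣ)).filter (fun l => ¬ twin hs l = l),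
        (l c : ℂ) * weight χ₀ z l = 0 := by
      rw [Finset.sum_congr rfl fun l hl => by
        have hl' := (Finset.mem_filter.1 hl).2
        rw [weight_free S hs hz1 hzz (fun e => hl' (by rw [e]; rfl)) hl'], ← Finset.sum_mul]
      have h := Finset.sum_filter_add_sum_filter_not (Finset.univ : Finset (E →* ℂˣ))
        (fun l => twin hs l = l) (fun l => (l c : ℂ))
      rw [← hF, hFsum, zero_add, sum_dual_apply, if_neg hc1] at h
      rw [h, zero_mul]
    rw [hfree, add_zero, sub_eq_zero] at h0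
    have hnorm : ‖∑ l ∈ F, (l c : ℂ) * weight χ₀ z l‖ ≤ 1 := by
      refine (norm_sum_le _ _).trans ((Finset.sum_le_card_nsmul _ _ (2 / (e : ℝ)) fun l hl => ?_).trans ?_)
      · rw [norm_mul, Complex.norm_eq_one_of_pow_eq_one (n := e) (by
          rw [← Units.val_pow_eq_pow_val, ← map_pow, he, pow_card_eq_one', map_one, Units.val_one])
            Nat.card_pos.ne', one_mul]
        by_cases hl1 : l = 1
        · subst hl1; rw [weight_one, norm_zero]; positivity
        · exact norm_weight_fixed S hs hz1 hzz hl1 (Finset.mem_filter.1 hl).2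
      · rw [nsmul_eq_mul, ← mul_div_assoc, div_le_one (by exact_mod_cast Nat.card_pos (α := E))]
        exact_mod_cast hFle
    rw [← h0, show (1 : ℂ) + 1 / (p : ℂ) = ((1 + 1 / (p : ℝ) : ℝ) : ℂ) by push_cast; rfl,
      Complex.norm_real, Real.norm_eq_abs] at hnorm
    have hpr : (0 : ℝ) < 1 / (p : ℝ) := div_pos one_pos (by exact_mod_cast hp.pos)
    rw [abs_of_pos (by linarith)] at hnorm
    linarith
  obtain ⟨⟨g₁, g₂⟩, hw⟩ : (pairSet (z : G) (c : G)).Nonempty := by
    rw [← Finset.card_pos, Nat.pos_iff_ne_zero]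
    intro h0
    have h := natCard_mul_Tsum (z : G) (c : G)
    rw [h0, Nat.cast_zero] at h
    exact hT ((mul_eq_zero.1 h).resolve_left (Nat.cast_ne_zero.2 Nat.card_pos.ne'))
  simp only [pairSet, Finset.mem_filter, Finset.mem_univ, true_and] at hw
  obtain ⟨v, hv⟩ : ∃ v, v = g₁ * (z : G) * g₁⁻¹ := ⟨_, rfl⟩
  obtain ⟨w, hwdef⟩ : ∃ w, w = g₂ * (z : G) * g₂⁻¹ := ⟨_, rfl⟩
  rw [← hv, ← hwdef] at hw
  have hzzG : (z : G) * z = 1 := congrArg Subtype.val hzz
  have hvv : v * v = 1 := by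
    rw [hv, show g₁ * (z : G) * g₁⁻¹ * (g₁ * z * g₁⁻¹) = g₁ * ((z : G) * z) * g₁⁻¹ by group, hzzG]
    group
  have hww : w * w = 1 := by
    rw [hwdef, show g₂ * (z : G) * g₂⁻¹ * (g₂ * z * g₂⁻¹) = g₂ * ((z : G) * z) * g₂⁻¹ by group, hzzG]
    group
  have hvinv : v⁻¹ = v := inv_eq_of_mul_eq_one_right hvv
  have hwinv : w⁻¹ = w := inv_eq_of_mul_eq_one_right hww
  have hinv : v * (c : G) * v⁻¹ = (c : G)⁻¹ := by
    have hc' : (c : G) = w * v := by
      rw [← inv_inv (c : G), ← hw, mul_inv_rev, hvinv, hwinv]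
    rw [hc', mul_inv_rev, hvinv, hwinv, mul_assoc, mul_assoc, hvv, mul_one]
  have hvN : v ∈ Subgroup.normalizer (E : Set G) :=
    S.mem_of_conj c.2 (fun h => hc1 (Subtype.ext h)) (by rw [hinv]; exact E.inv_mem c.2)
  refine ⟨v, hvN, fun hvE => hc2 (Subtype.ext ?_), isConj_iff.2 ⟨g₁, hv.symm⟩, hinv,
    isConj_iff.2 ⟨g₂, ?_⟩⟩
  · rw [sub_mul_comm hvE c.2, mul_inv_cancel_right] at hinv
    show (c : G) * c = 1
    exact mul_eq_one_iff_eq_inv.2 hinv
  · rw [← hwdef, ← hw, ← mul_assoc, hvv, one_mul]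

end

/-- The even case. -/
theorem psl_of_even (S : Setting p P E χ₀) (heven : 2 ∣ Nat.card E) (he4 : 3 ≤ Nat.card E) :
    ∃ (F : Type) (_ : Field F) (_ : Fintype F), Fintype.card F = p ∧
      Nonempty (G ≃* Matrix.ProjectiveSpecialLinearGroup (Fin 2) F) := by
  classical
  haveI := Fintype.ofFinite (IrrCharacter G)
  haveI : Finite (E →* ℂˣ) := inferInstance
  haveI := Fintype.ofFinite (E →* ℂˣ)
  have hp := (Fact.out : p.Prime)
  obtain ⟨s₀, hs₀⟩ := exists_outer E S.cardNE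
  obtain ⟨z, hz1, hzz⟩ := exists_invol S heven
  obtain ⟨c, hc⟩ := S.cycE.exists_generator
  set e := Nat.card E with he
  have hco : orderOf c = e := orderOf_eq_card_of_forall_mem_zpowers hc
  have hc2 : c * c ≠ 1 := fun h => by
    have := Nat.le_of_dvd two_pos (orderOf_dvd_of_pow_eq_one ((pow_two c).trans h))
    omega
  have hc1 : c ≠ 1 := fun h => hc2 (by rw [h, one_mul])
  obtain ⟨v, hvN, hvE, hvz, hvc, hvcz⟩ := exists_inverting S hs₀ hz1 hzz hc hc2 (exists_moved S hs₀ he4)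
  have hs : Outer E v := ⟨hvN, hvE⟩
  have hinv : ∀ a : E, conjE hs a = a⁻¹ := by
    intro a
    obtain ⟨k, rfl⟩ := Subgroup.mem_zpowers_iff.1 (hc a)
    rw [map_zpow, show conjE hs c = c⁻¹ from Subtype.ext hvc, inv_zpow]
  -- all outer elements are conjugate to the involution
  have hall : ∀ x, x ∈ Subgroup.normalizer (E : Set G) → x ∉ E → IsConj (z : G) x := by
    intro x hx hxE
    obtain ⟨b, hb, rfl⟩ := hs.split S.cardNE hx hxE
    obtain ⟨k, hk⟩ := Subgroup.mem_zpowers_iff.1 (hc ⟨b, hb⟩)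
    have hb' : b = (c : G) ^ k := by
      rw [← SubgroupClass.coe_zpow, hk]
    have hshift : ∀ j : ℤ, v * (c : G) ^ j = (c : G) ^ (-j) * v := fun j => by
      have h := conj_zpow (a := v) (b := (c : G)) (i := j)
      rw [hvc, inv_zpow'] at h
      rw [h, inv_mul_cancel_right]
    subst hb'
    rcases Int.even_or_odd k with ⟨j, rfl⟩ | ⟨j, rfl⟩
    · refine hvz.trans (isConj_iff.2 ⟨(c : G) ^ (-j), ?_⟩)
      rw [← hshift j, ← zpow_neg, neg_neg, mul_assoc, ← zpow_add]
    · refine hvcz.trans (isConj_iff.2 ⟨(c : G) ^ (-(j + 1)), ?_⟩)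
      rw [← mul_assoc, ← hshift (j + 1), ← zpow_neg, neg_neg, ← zpow_neg_one,
        mul_assoc v, ← zpow_add, mul_assoc v, ← zpow_add]
      congr 2
      ring
  -- the number of pairs
  have hzzG : (z : G) * z = 1 := congrArg Subtype.val hzz
  have hC : Nat.card (Subgroup.centralizer ({(z : G)} : Set G)) = 2 * e := by
    rw [centralizer_invol S hz1 hzz, S.cardNE]
  set O := (Finset.univ : Finset G).filter fun x => x ∈ Subgroup.normalizer (E : Set G) ∧ x ∉ E with hO
  have hOc : O.card = e := by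
    have h3 : (Finset.univ.filter fun g : G => g ∈ Subgroup.normalizer (E : Set G)).card = 2 * e := by
      rw [← S.cardNE, Nat.card_eq_fintype_card, Fintype.card_subtype]
    have h1 : (Finset.univ.filter fun g : G => g ∈ E).card = e := by
      rw [he, Nat.card_eq_fintype_card, Fintype.card_subtype]
    have h4 : O = (Finset.univ.filter fun g : G => g ∈ Subgroup.normalizer (E : Set G)) \
        (Finset.univ.filter fun g : G => g ∈ E) := by
      ext g; simp [hO]
    rw [h4, Finset.card_sdiff_of_subset (fun g hg => by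
      simp only [Finset.mem_filter, Finset.mem_univ, true_and] at hg ⊢
      exact Subgroup.le_normalizer hg), h3, h1]
    omega
  have hpairs : ∀ a : E, a ≠ 1 → (pairSet (z : G) (a : G)).card = e * (2 * e * (2 * e)) := by
    intro a ha
    have hmaps : ∀ w ∈ pairSet (z : G) (a : G), w.1 * (z : G) * w.1⁻¹ ∈ O := by
      rintro ⟨g₁, g₂⟩ hw
      simp only [pairSet, Finset.mem_filter, Finset.mem_univ, true_and] at hw
      obtain ⟨x, hx⟩ : ∃ x, x = g₁ * (z : G) * g₁⁻¹ := ⟨_, rfl⟩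
      obtain ⟨y, hy⟩ : ∃ y, y = g₂ * (z : G) * g₂⁻¹ := ⟨_, rfl⟩
      show g₁ * (z : G) * g₁⁻¹ ∈ O
      rw [← hx, ← hy] at hw
      rw [← hx]
      have hxx : x * x = 1 := by
        rw [hx, show g₁ * (z : G) * g₁⁻¹ * (g₁ * z * g₁⁻¹) = g₁ * ((z : G) * z) * g₁⁻¹ by group, hzzG]
        group
      have hyy : y * y = 1 := by
        rw [hy, show g₂ * (z : G) * g₂⁻¹ * (g₂ * z * g₂⁻¹) = g₂ * ((z : G) * z) * g₂⁻¹ by group, hzzG]
        group
      have hy1 : y ≠ 1 := fun h => hz1 (Subtype.ext (by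
        rw [hy, mul_inv_eq_one] at h; exact mul_eq_left.1 h))
      have hx1 : x ≠ 1 := fun h => hz1 (Subtype.ext (by
        rw [hx, mul_inv_eq_one] at h; exact mul_eq_left.1 h))
      have hxinv : x⁻¹ = x := inv_eq_of_mul_eq_one_right hxx
      have hxa : x * (a : G) * x⁻¹ = (a : G)⁻¹ := by
        rw [← inv_inv (a : G), ← hw, mul_inv_rev, hxinv, inv_eq_of_mul_eq_one_right hyy, mul_inv_rev,
          hxinv, inv_eq_of_mul_eq_one_right hyy, mul_assoc, mul_assoc, hxx, mul_one]
      refine Finset.mem_filter.2 ⟨Finset.mem_univ _, S.mem_of_conj a.2 (fun h => ha (Subtype.ext h))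
        (by rw [hxa]; exact E.inv_mem a.2), fun hxE => ?_⟩
      have hyE : y ∈ E := by
        have : y = x * (a : G)⁻¹ := by rw [← hw, ← mul_assoc, hxx, one_mul]
        rw [this]; exact mul_mem hxE (E.inv_mem a.2)
      have h1 : (⟨x, hxE⟩ : E) = z := invol_unique S hz1 hzz
        (fun h => hx1 (congrArg Subtype.val h)) (Subtype.ext hxx)
      have h2 : (⟨y, hyE⟩ : E) = z := invol_unique S hz1 hzz
        (fun h => hy1 (congrArg Subtype.val h)) (Subtype.ext hyy)
      have hxy : x = y := congrArg Subtype.val (h1.trans h2.symm)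
      rw [← hxy, hxx] at hw
      exact ha (Subtype.ext (inv_eq_one.1 hw.symm))
    rw [Finset.card_eq_sum_card_fiberwise hmaps, Finset.sum_congr rfl (g := fun _ => 2 * e * (2 * e)) fun x hx => ?_,
      Finset.sum_const, hOc, smul_eq_mul]
    obtain ⟨hxN, hxE⟩ := (Finset.mem_filter.1 hx).2
    have hyN : x * (a : G)⁻¹ ∈ Subgroup.normalizer (E : Set G) :=
      mul_mem hxN (Subgroup.le_normalizer (E.inv_mem a.2))
    have hyE : x * (a : G)⁻¹ ∉ E := fun h => hxE (by simpa using mul_mem h a.2)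
    obtain ⟨g₁, hg₁⟩ := isConj_iff.1 (hall x hxN hxE)
    obtain ⟨g₂, hg₂⟩ := isConj_iff.1 (hall _ hyN hyE)
    have hxx : x * x = 1 := by
      rw [← hg₁, show g₁ * (z : G) * g₁⁻¹ * (g₁ * z * g₁⁻¹) = g₁ * ((z : G) * z) * g₁⁻¹ by group, hzzG]
      group
    have hset : (pairSet (z : G) (a : G)).filter (fun w => w.1 * (z : G) * w.1⁻¹ = x) =
        (Finset.univ.filter fun g : G => g * z * g⁻¹ = x) ×ˢ
          (Finset.univ.filter fun g : G => g * z * g⁻¹ = x * (a : G)⁻¹) := by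
      ext ⟨w₁, w₂⟩
      simp only [pairSet, Finset.mem_filter, Finset.mem_univ, true_and, Finset.mem_product]
      constructor
      · rintro ⟨h, h'⟩
        refine ⟨h', ?_⟩
        rw [← h, h', ← mul_assoc, hxx, one_mul]
      · rintro ⟨h, h'⟩
        exact ⟨by rw [h, h', ← mul_assoc, hxx, one_mul], h⟩
    rw [hset, Finset.card_product, card_conjugators hg₁, card_conjugators hg₂, hC]
  -- both values
  obtain ⟨ν, hν, hν2, -⟩ := exists_sign hc heven
  have hν1 : ν ≠ 1 := fun h => by rw [h] at hν; simp at hν; norm_num at hν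
  have htw : ∀ l : E →* ℂˣ, twin hs l = l⁻¹ := fun l =>
    MonoidHom.ext fun a => by rw [twin_apply, hinv, map_inv]; rfl
  have hfix : ∀ l : E →* ℂˣ, l ≠ 1 → l ≠ ν → twin hs l ≠ l := fun l h1 hν' h => by
    rw [htw] at h
    have h2 : l * l = 1 := by nth_rewrite 1 [← h]; exact inv_mul_cancel l
    rcases eq_inv_of_sq (g := c) h2 with e | e
    · exact h1 (ext_gen hc (by rw [e]; simp))
    · exact hν' (ext_gen hc (by rw [e, hν]))
  set q : ℂ := 4 / ((p : ℂ) + 1) with hq
  have hTval : ∀ a : E, a ≠ 1 → Tsum (z : G) (a : G) =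
      1 + 1 / (p : ℂ) + q * (-1 - (ν a : ℂ)) - (ν a : ℂ) * weight χ₀ z ν := by
    intro a ha
    have hmem : ν ∈ (Finset.univ : Finset (E →* ℂˣ)).erase 1 :=
      Finset.mem_erase.2 ⟨hν1, Finset.mem_univ _⟩
    have hrest : ∑ l ∈ ((Finset.univ : Finset (E →* ℂˣ)).erase 1).erase ν, (l a : ℂ) = -1 - (ν a : ℂ) := by
      rw [Finset.sum_erase_eq_sub hmem, sum_dual_erase_apply ha]
    rw [Tsum_eq S hz1 ha, ← Finset.add_sum_erase _ _ (Finset.mem_univ (1 : E →* ℂˣ)),
      ← Finset.add_sum_erase _ _ hmem, weight_one,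
      Finset.sum_congr rfl fun l hl => by
        obtain ⟨hlν, hl'⟩ := Finset.mem_erase.1 hl
        rw [weight_free S hs hz1 hzz (Finset.mem_erase.1 hl').1 (hfix l (Finset.mem_erase.1 hl').1 hlν)],
      ← Finset.sum_mul, hrest, hq]
    ring
  have hGne : (Nat.card G : ℂ) ≠ 0 := Nat.cast_ne_zero.2 Nat.card_pos.ne'
  have hcount : ∀ a : E, a ≠ 1 → (Nat.card G : ℂ) * Tsum (z : G) (a : G) = 4 * (e : ℂ) ^ 3 := fun a ha => by
    rw [natCard_mul_Tsum, hpairs a ha]; push_cast; ring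
  have hνc2 : (ν (c * c) : ℂ) = 1 := by rw [map_mul, Units.val_mul, hν]; norm_num
  have hw : weight χ₀ z ν = -q := by
    have h := (hcount c hc1).trans (hcount (c * c) hc2).symm
    have h' := mul_left_cancel₀ hGne h
    rw [hTval c hc1, hTval _ hc2, hν, hνc2] at h'
    linear_combination h' / 2
  have hmain : (Nat.card G : ℂ) * (1 + 1 / (p : ℂ) - q) = 4 * (e : ℂ) ^ 3 := by
    rw [← hcount c hc1, hTval c hc1, hν, hw]; ring
  -- the order
  have hp0 : (p : ℂ) ≠ 0 := Nat.cast_ne_zero.2 hp.ne_zero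
  have hp1 : (p : ℂ) + 1 ≠ 0 := by exact_mod_cast (show p + 1 ≠ 0 by omega)
  obtain ⟨t', ht'⟩ := S.even_t
  have hpt : p = 2 * e * t' + 1 := by
    have := hp.two_le
    rw [← ht']
    omega
  have hmain2 : Nat.card G * (2 * t') ^ 2 = 4 * e * (p * (p + 1)) := by
    have h : (Nat.card G : ℂ) * (((p : ℂ) - 1) * ((p : ℂ) - 1)) =
        4 * (e : ℂ) ^ 3 * ((p : ℂ) * ((p : ℂ) + 1)) := by
      rw [← hmain, hq]
      field_simp
      ring
    have hpc : (p : ℂ) - 1 = (e : ℂ) * (2 * (t' : ℂ)) := by rw [hpt]; push_cast; ring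
    have h2 : (e : ℂ) ^ 2 * ((Nat.card G : ℂ) * (2 * (t' : ℂ)) ^ 2) =
        (e : ℂ) ^ 2 * (4 * (e : ℂ) * ((p : ℂ) * ((p : ℂ) + 1))) := by
      rw [hpc] at h
      linear_combination h
    have he0 : (e : ℂ) ^ 2 ≠ 0 := pow_ne_zero _ (Nat.cast_ne_zero.2 (by omega))
    exact_mod_cast mul_left_cancel₀ he0 h2
  -- the Sylow number
  haveI := S.simple
  set np := Nat.card (Sylow p G) with hnp
  have hG : Nat.card G = p * e * np := by
    rw [hnp, P.card_eq_index_normalizer, ← S.cardN]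
    exact (Subgroup.card_mul_index _).symm
  have hnpeq : np * t' ^ 2 = p + 1 := by
    rw [hG] at hmain2
    have h2 : (4 * e * p) * (np * t' ^ 2) = (4 * e * p) * (p + 1) := by
      linear_combination hmain2
    exact Nat.eq_of_mul_eq_mul_left (by have := hp.pos; positivity) h2
  have hnp1 : 1 < np := (Transfer.sylow_count_of_simple S.not_isMulCommutative (p := p)
    ((show Nat.card (P : Subgroup G) = p from S.cardP) ▸ Subgroup.card_subgroup_dvd_card _)).1
  obtain ⟨n, hn⟩ : ∃ n, np = 1 + n * p := by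
    have h0 : 0 < Nat.card (Sylow p G) := Nat.card_pos
    obtain ⟨n, hn⟩ := (Nat.modEq_iff_dvd' h0).1 (card_sylow_modEq_one p G).symm
    exact ⟨n, by rw [hnp, mul_comm n p]; omega⟩
  have hn0 : 0 < n := Nat.pos_of_ne_zero fun h => by rw [h] at hn; omega
  have ht0 : 0 < t' := Nat.pos_of_ne_zero fun h => by rw [h] at hnpeq; simp at hnpeq
  have hp2 := hp.two_le
  have hn1 : n = 1 := by
    by_contra hne
    have h2 : 2 * p ≤ n * p := Nat.mul_le_mul_right _ (by omega)
    have h3 : np * 1 ≤ np * t' ^ 2 := Nat.mul_le_mul_left _ (Nat.one_le_pow _ _ ht0)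
    omega
  have ht1 : t' = 1 := by
    by_contra hne
    have h3 : np * 4 ≤ np * t' ^ 2 := Nat.mul_le_mul_left _ (by
      have := Nat.mul_le_mul (show 2 ≤ t' by omega) (show 2 ≤ t' by omega)
      rw [pow_two]; omega)
    have : p ≤ n * p := Nat.le_mul_of_pos_left _ hn0
    omega
  have hcore : Cfsg.pPrimeCore p G = ⊥ := by
    refine (IsSimpleGroup.eq_bot_or_eq_top_of_normal _ (CfsgLib.Solvable.pPrimeCore_normal p G)).resolve_right
      fun h => ?_
    have h1 := CfsgLib.Solvable.pPrimeCore_coprime (G := G) p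
    rw [h, Subgroup.card_top] at h1
    exact hp.ne_one (Nat.Coprime.eq_one_of_dvd h1.symm
      ((show Nat.card (P : Subgroup G) = p from S.cardP) ▸ Subgroup.card_subgroup_dvd_card _))
  rcases main_of_core_eq_bot S.perf P (show Nat.card (P : Subgroup G) = p from S.cardP) (n := n)
      (by rw [← hnp]; exact hn) (not_formula_of_bound hp.one_le (by omega)) hcore with
    ⟨F, iF, iF', hF, -, hiso⟩ | ⟨m, F, iF, iF', hF, hpm, -, ⟨ψ⟩⟩
  · exact ⟨F, iF, iF', hF, hiso⟩
  · exfalso
    have hcard := Nat.card_congr ψ.toEquiv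
    rw [hG, hn, hn1, one_mul, Classical.card_sl_two_eq, hF] at hcard
    rw [ht1, mul_one] at hpt
    have hq' : 2 ^ m = 2 * e := by omega
    rw [hq', hpt] at hcard
    have h1 : 1 ≤ (2 * e) ^ 2 := Nat.one_le_pow _ _ (by omega)
    obtain ⟨k, hk⟩ : ∃ k, (2 * e) ^ 2 = k + 1 := ⟨(2 * e) ^ 2 - 1, by omega⟩
    rw [hk, Nat.add_sub_cancel] at hcard
    nlinarith

end CfsgLib.Block.PrimeTI
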