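import Cfsg.Agent.Lib.Block.PrimeTI.Induced

/-!
The constituents of the induced differences `1 - l`.
-/

set_option autoImplicit false
set_option linter.unusedSectionVars false

namespace CfsgLib.Block.PrimeTI

open Cfsg CfsgLib CfsgLib.Block
open scoped ComplexConjugate

universe u

variable {G : Type u} [Group G] [Fintype G] {p : ℕ} [Fact p.Prime] {P : Sylow p G} {E : Subgroup G}
  {χ₀ : IrrCharacter G} {s : G}

/-- The trivial character. -/
noncomputable def one' : IrrCharacter G := ⟨fun _ => 1, Char.isIrrCharacter_one⟩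

theorem one'_apply (g : G) : (one' : IrrCharacter G).1 g = 1 := rfl

theorem exists_coef (l : E →* ℂˣ) (χ : IrrCharacter G) :
    ∃ k : ℤ, classInner (Phi l) (χ : G → ℂ) = (k : ℂ) :=
  Char.classInner_isGeneralized_int (Phi_isGeneralized l)
    (Char.isGeneralized_of_isCharacter (Char.irr_isCharacter χ.2))

/-- The multiplicities. -/
noncomputable def coef (l : E →* ℂˣ) (χ : IrrCharacter G) : ℤ := (exists_coef l χ).choose

theorem coef_spec (l : E →* ℂˣ) (χ : IrrCharacter G) :
    classInner (Phi l) (χ : G → ℂ) = (coef l χ : ℂ) := (exists_coef l χ).choose_spec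

theorem coef_one_left [Fintype E] (χ : IrrCharacter G) : coef (1 : E →* ℂˣ) χ = 0 := by
  have h := coef_spec (1 : E →* ℂˣ) χ
  rw [Phi_inner _ (Char.irr_isClassFunction χ.2),
    show oneSub (1 : E →* ℂˣ) = 0 from funext fun a => by simp [oneSub], Char.classInner_zero_left] at h
  exact_mod_cast h.symm

theorem Phi_expand [Fintype (IrrCharacter G)] (l : E →* ℂˣ) (g : G) :
    Phi l g = ∑ χ : IrrCharacter G, (coef l χ : ℂ) * (χ : G → ℂ) g := by
  rw [Char.classFunction_apply_eq_sum (Phi_isClassFunction l) g]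
  exact Finset.sum_congr rfl fun χ _ => by rw [coef_spec]

theorem sum_coef_degree [Fintype (IrrCharacter G)] (l : E →* ℂˣ) :
    ∑ χ : IrrCharacter G, coef l χ * (charDegree (χ : G → ℂ) : ℤ) = 0 := by
  have h := Phi_expand l (1 : G)
  rw [show Phi l (1 : G) = 0 by rw [Phi, Char.indFun_apply_one]; simp [oneSub]] at h
  have h' : (((∑ χ : IrrCharacter G, coef l χ * (charDegree (χ : G → ℂ) : ℤ)) : ℤ) : ℂ) = ((0 : ℤ) : ℂ) := by
    push_cast
    rw [h]
    exact Finset.sum_congr rfl fun χ _ => by rw [← BlockB.irr_degree_cast χ]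
  exact_mod_cast h'

theorem twin_apply (hs : Outer E s) (l : E →* ℂˣ) (a : E) : twin hs l a = l (conjE hs a) := rfl

theorem coef_twin [Fintype E] [IsMulCommutative E] (hs : Outer E s)
    (hcard : Nat.card (Subgroup.normalizer (E : Set G)) = 2 * Nat.card E) (l : E →* ℂˣ)
    (χ : IrrCharacter G) : coef (twin hs l) χ = coef l χ := by
  have h1 := coef_spec (twin hs l) χ
  have h2 := coef_spec l χ
  rw [Phi_inner _ (Char.irr_isClassFunction χ.2)] at h1 h2
  have h3 : classInner (oneSub (twin hs l)) (fun a : E => (χ : G → ℂ) a) =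
      classInner (oneSub l) (fun a : E => (χ : G → ℂ) a) := by
    rw [Char.classInner_def, Char.classInner_def]
    congr 1
    refine Fintype.sum_bijective (conjE hs)
      ⟨fun a b h => by rw [← conjE_conjE hs hcard a, h, conjE_conjE hs hcard],
        fun a => ⟨conjE hs a, conjE_conjE hs hcard a⟩⟩ _ _ fun a => ?_
    rw [coe_conjE, Char.irr_isClassFunction χ.2 (a : G) s]
    rfl
  rw [h3, h2] at h1
  exact_mod_cast h1.symm

theorem sum_coef_mul [Fintype (IrrCharacter G)] [Fintype E] [IsMulCommutative E] (hs : Outer E s)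
    (hcard : Nat.card (Subgroup.normalizer (E : Set G)) = 2 * Nat.card E)
    (hTI : ∀ g : G, g ∉ Subgroup.normalizer (E : Set G) → ∀ a ∈ E, g * a * g⁻¹ ∈ E → a = 1)
    {l m : E →* ℂˣ} (hl : l ≠ 1) (hm : m ≠ 1) [Decidable (l = m)] [Decidable (l = twin hs m)] :
    ∑ χ : IrrCharacter G, coef l χ * coef m χ =
      2 + (if l = m then 1 else 0) + (if l = twin hs m then 1 else 0) := by
  have h := inner_Phi hs hcard hTI hl hm
  rw [Char.classInner_eq_sum_mul (Phi_isClassFunction l) (Phi m)] at h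
  simp only [coef_spec, map_intCast] at h
  have h' : ((∑ χ : IrrCharacter G, coef l χ * coef m χ : ℤ) : ℂ) =
      (((2 + (if l = m then 1 else 0) + (if l = twin hs m then 1 else 0)) : ℤ) : ℂ) := by
    push_cast
    exact h
  exact_mod_cast h'

/-- The values on `E` are determined by the multiplicities. -/
theorem value_eq [Fintype E] [IsMulCommutative E] [Fintype (E →* ℂˣ)] (χ : IrrCharacter G) {a : E}
    (ha : a ≠ 1) : (χ : G → ℂ) a = -∑ l : E →* ℂˣ, (coef l χ : ℂ) * (l a : ℂ) := by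
  classical
  let m : (E →* ℂˣ) → ℂ := fun l => (Nat.card E : ℂ)⁻¹ * ∑ b : E, (χ : G → ℂ) b * (l b⁻¹ : ℂ)
  have hm : ∀ l, (coef l χ : ℂ) = m 1 - m l := by
    intro l
    have hr : classInner (fun a : E => (χ : G → ℂ) a) (oneSub l) = m 1 - m l := by
      rw [Char.classInner_def, ← mul_sub, ← Finset.sum_sub_distrib]
      congr 1
      refine Finset.sum_congr rfl fun b _ => ?_
      rw [oneSub, map_sub, map_one, Char.conj_linear_apply, map_inv]
      simp [mul_sub]
    have h := coef_spec l χ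
    rw [Phi_inner _ (Char.irr_isClassFunction χ.2), ← Char.classInner_conj_symm, hr] at h
    rw [← Complex.conj_conj (m 1 - m l), h, map_intCast]
  have hexp := expansion (fun b : E => (χ : G → ℂ) b) a
  calc (χ : G → ℂ) a = ∑ l : E →* ℂˣ, m l * (l a : ℂ) := hexp.symm
    _ = ∑ l : E →* ℂˣ, (m 1 * (l a : ℂ) - (coef l χ : ℂ) * (l a : ℂ)) :=
        Finset.sum_congr rfl fun l _ => by rw [hm l]; ring
    _ = _ := by
      rw [Finset.sum_sub_distrib, ← Finset.mul_sum, sum_dual_apply, if_neg ha, mul_zero, zero_sub]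

/-- The degree modulo the order of `E`. -/
theorem degree_dvd [Fintype E] [IsMulCommutative E] [Fintype (E →* ℂˣ)] (χ : IrrCharacter G) :
    (Nat.card E : ℤ) ∣ (charDegree (χ : G → ℂ) : ℤ) + ∑ l : E →* ℂˣ, coef l χ := by
  classical
  obtain ⟨k, hk⟩ := Char.classInner_isCharacter_nat (Char.isCharacter_restrict (Char.irr_isCharacter χ.2) E)
    (Char.isCharacter_one (G := E))
  refine ⟨k, ?_⟩
  have h1 : (Nat.card E : ℂ) * (k : ℂ) = ∑ a : E, (χ : G → ℂ) a := by
    rw [← hk, Char.classInner_def, mul_inv_cancel_left₀ (Nat.cast_ne_zero.2 Nat.card_pos.ne')]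
    simp
  have h2 : ∑ a : E, (χ : G → ℂ) a =
      (χ : G → ℂ) 1 + ∑ l : E →* ℂˣ, (coef l χ : ℂ) := by
    rw [← Finset.add_sum_erase _ _ (Finset.mem_univ (1 : E)), OneMemClass.coe_one,
      Finset.sum_congr rfl fun a ha => value_eq χ (Finset.mem_erase.1 ha).1, Finset.sum_neg_distrib,
      Finset.sum_comm, ← sub_eq_add_neg, sub_eq_iff_eq_add, add_assoc, ← Finset.sum_add_distrib,
      Finset.sum_eq_zero fun l _ => ?_, add_zero]
    by_cases hl : l = 1
    · subst hl; simp [coef_one_left]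
    · rw [← Finset.mul_sum, Finset.sum_erase_eq_sub (Finset.mem_univ _), sum_apply_eq, if_neg hl]
      simp
  have h3 : (((Nat.card E : ℤ) * k : ℤ) : ℂ) =
      (((charDegree (χ : G → ℂ) : ℤ) + ∑ l : E →* ℂˣ, coef l χ : ℤ) : ℂ) := by
    push_cast
    rw [h1, h2, BlockB.irr_degree_cast]
  exact_mod_cast h3.symm

section

variable (S : Setting p P E χ₀)
include S

theorem one_ne_chi : (one' : IrrCharacter G) ≠ χ₀ := fun h => by
  have h1 : (one' : IrrCharacter G).1 1 = (p : ℂ) := by rw [h]; exact S.deg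
  rw [one'_apply] at h1
  exact (Fact.out : p.Prime).ne_one (by exact_mod_cast h1.symm)

theorem degree_chi : charDegree (χ₀ : G → ℂ) = p := by
  have h := S.deg
  rw [← BlockB.irr_degree_cast χ₀] at h
  exact_mod_cast h

variable [Fintype E] [IsMulCommutative E]

theorem coef_trivial {l : E →* ℂˣ} (hl : l ≠ 1) : coef l (one' : IrrCharacter G) = 1 := by
  classical
  have h := coef_spec l (one' : IrrCharacter G)
  rw [Phi_inner _ (Char.irr_isClassFunction (one' : IrrCharacter G).2)] at h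
  have e : (fun a : E => (one' : IrrCharacter G).1 (a : G)) =
      fun a : E => ((1 : E →* ℂˣ) a : ℂ) := by funext a; simp [one'_apply]
  rw [e, inner_oneSub hl, if_pos rfl, if_neg hl, sub_zero] at h
  exact_mod_cast h.symm

theorem coef_chi {l : E →* ℂˣ} (hl : l ≠ 1) : coef l χ₀ = 1 := by
  classical
  have h := coef_spec l χ₀
  rw [Phi_inner _ (Char.irr_isClassFunction χ₀.2)] at h
  have e : classInner (oneSub l) (fun a : E => (χ₀ : G → ℂ) a) =
      classInner (oneSub l) (fun a : E => ((1 : E →* ℂˣ) a : ℂ)) := by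
    rw [Char.classInner_def, Char.classInner_def]
    congr 1
    refine Finset.sum_congr rfl fun a _ => ?_
    by_cases ha : a = 1
    · subst ha; simp [oneSub]
    · rw [S.valE _ a.2 fun h => ha (Subtype.ext h)]; simp
  rw [e, inner_oneSub hl, if_pos rfl, if_neg hl, sub_zero] at h
  exact_mod_cast h.symm

variable [Fintype (IrrCharacter G)] (hs : Outer E s)
include hs

open scoped Classical in
/-- The constituents other than the two common ones. -/
theorem rest_sums {l m : E →* ℂˣ} (hl : l ≠ 1) (hm : m ≠ 1) :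
    ∑ χ ∈ (Finset.univ.erase (one' : IrrCharacter G)).erase χ₀, coef l χ * coef m χ =
      (if l = m then 1 else 0) + (if l = twin hs m then 1 else 0) := by
  have h := sum_coef_mul hs S.cardNE S.ti hl hm
  rw [← Finset.add_sum_erase _ _ (Finset.mem_univ (one' : IrrCharacter G)),
    ← Finset.add_sum_erase _ _ (Finset.mem_erase.2 ⟨(one_ne_chi S).symm, Finset.mem_univ χ₀⟩),
    coef_trivial S hl, coef_trivial S hm, coef_chi S hl, coef_chi S hm] at h
  omega

open scoped Classical in
theorem rest_degree {l : E →* ℂˣ} (hl : l ≠ 1) :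
    ∑ χ ∈ (Finset.univ.erase (one' : IrrCharacter G)).erase χ₀,
      coef l χ * (charDegree (χ : G → ℂ) : ℤ) = -((p : ℤ) + 1) := by
  have h := sum_coef_degree (G := G) l
  have h1 : charDegree ((one' : IrrCharacter G) : G → ℂ) = 1 := by
    have h2 := BlockB.irr_degree_cast (one' : IrrCharacter G)
    rw [one'_apply] at h2
    exact_mod_cast h2
  rw [← Finset.add_sum_erase _ _ (Finset.mem_univ (one' : IrrCharacter G)),
    ← Finset.add_sum_erase _ _ (Finset.mem_erase.2 ⟨(one_ne_chi S).symm, Finset.mem_univ χ₀⟩),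
    coef_trivial S hl, coef_chi S hl, degree_chi S, h1] at h
  push_cast at h
  omega

/-- A pair of characters: one further constituent of degree `p + 1`. -/
theorem exists_eta {l : E →* ℂˣ} (hl : l ≠ 1) (hfix : twin hs l ≠ l) :
    ∃ η : IrrCharacter G, η ≠ one' ∧ η ≠ χ₀ ∧ charDegree (η : G → ℂ) = p + 1 ∧ coef l η = -1 ∧
      ∀ χ, χ ≠ one' → χ ≠ χ₀ → χ ≠ η → coef l χ = 0 := by
  classical
  have h := rest_sums S hs hl hl
  rw [if_pos rfl, if_neg (Ne.symm hfix), add_zero] at h
  have hd := rest_degree S hs hl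
  set R := (Finset.univ.erase (one' : IrrCharacter G)).erase χ₀ with hR
  obtain ⟨η, hη, hηne⟩ : ∃ η ∈ R, coef l η ≠ 0 := by
    by_contra hcon
    push Not at hcon
    rw [Finset.sum_eq_zero fun χ hχ => by rw [hcon χ hχ, mul_zero]] at h
    exact zero_ne_one h
  have h' := h
  rw [← Finset.add_sum_erase _ _ hη] at h'
  have hnn : 0 ≤ ∑ χ ∈ R.erase η, coef l χ * coef l χ := Finset.sum_nonneg fun χ _ => mul_self_nonneg _
  have hpos : 0 < coef l η * coef l η := mul_self_pos.2 hηne
  have h1 : coef l η * coef l η = 1 := by omega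
  have hrest : ∀ χ ∈ R.erase η, coef l χ = 0 := fun χ hχ => mul_self_eq_zero.1
    ((Finset.sum_eq_zero_iff_of_nonneg fun χ _ => mul_self_nonneg _).1 (by omega) χ hχ)
  rw [← Finset.add_sum_erase _ _ hη, Finset.sum_eq_zero fun χ hχ => by rw [hrest χ hχ, zero_mul],
    add_zero] at hd
  have hηR := Finset.mem_erase.1 hη
  have hdpos : 0 < charDegree (η : G → ℂ) := BlockB.irr_degree_pos η
  rcases mul_self_eq_one_iff.1 h1 with hk | hk <;> rw [hk] at hd
  · omega
  · exact ⟨η, (Finset.mem_erase.1 hηR.2).1, hηR.1, by omega, hk, fun χ h2 h3 h4 =>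
      hrest χ (Finset.mem_erase.2 ⟨h4, Finset.mem_erase.2 ⟨h3, Finset.mem_erase.2 ⟨h2, Finset.mem_univ _⟩⟩⟩)⟩

/-- A fixed character: two further constituents with signed degree sum `-(p + 1)`. -/
theorem exists_pair {l : E →* ℂˣ} (hl : l ≠ 1) (hfix : twin hs l = l) :
    ∃ A B : IrrCharacter G, A ≠ B ∧ A ≠ one' ∧ A ≠ χ₀ ∧ B ≠ one' ∧ B ≠ χ₀ ∧
      coef l A * coef l A = 1 ∧ coef l B * coef l B = 1 ∧
      coef l A * (charDegree (A : G → ℂ) : ℤ) + coef l B * (charDegree (B : G → ℂ) : ℤ) = -((p : ℤ) + 1) ∧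
      ∀ χ, χ ≠ one' → χ ≠ χ₀ → χ ≠ A → χ ≠ B → coef l χ = 0 := by
  classical
  have h := rest_sums S hs hl hl
  rw [if_pos rfl, if_pos hfix.symm] at h
  have hd := rest_degree S hs hl
  set R := (Finset.univ.erase (one' : IrrCharacter G)).erase χ₀ with hR
  obtain ⟨A, hA, hAne⟩ : ∃ A ∈ R, coef l A ≠ 0 := by
    by_contra hcon
    push Not at hcon
    rw [Finset.sum_eq_zero fun χ hχ => by rw [hcon χ hχ, mul_zero]] at h
    omega
  have hunit : ∀ χ ∈ R, coef l χ ≠ 0 → coef l χ * coef l χ = 1 := by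
    intro χ hχ hne
    have hle : coef l χ * coef l χ ≤ 2 := by
      rw [← show (1 : ℤ) + 1 = 2 from rfl, ← h]
      exact Finset.single_le_sum (f := fun χ => coef l χ * coef l χ) (fun χ _ => mul_self_nonneg _) hχ
    have h1 : -1 ≤ coef l χ ∧ coef l χ ≤ 1 := by constructor <;> nlinarith
    rcases (show coef l χ = -1 ∨ coef l χ = 1 by omega) with e | e <;> rw [e] <;> norm_num
  rw [← Finset.add_sum_erase _ _ hA, hunit A hA hAne] at h
  obtain ⟨B, hB, hBne⟩ : ∃ B ∈ R.erase A, coef l B ≠ 0 := by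
    by_contra hcon
    push Not at hcon
    rw [Finset.sum_eq_zero fun χ hχ => by rw [hcon χ hχ, mul_zero]] at h
    omega
  have hB' := (Finset.mem_erase.1 hB).2
  rw [← Finset.add_sum_erase _ _ hB, hunit B hB' hBne] at h
  have hrest : ∀ χ ∈ (R.erase A).erase B, coef l χ = 0 := fun χ hχ => mul_self_eq_zero.1
    ((Finset.sum_eq_zero_iff_of_nonneg fun χ _ => mul_self_nonneg _).1 (by omega) χ hχ)
  rw [← Finset.add_sum_erase _ _ hA, ← Finset.add_sum_erase _ _ hB,
    Finset.sum_eq_zero fun χ hχ => by rw [hrest χ hχ, zero_mul], add_zero] at hd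
  have hA' := Finset.mem_erase.1 hA
  have hB'' := Finset.mem_erase.1 hB'
  exact ⟨A, B, (Finset.mem_erase.1 hB).1.symm, (Finset.mem_erase.1 hA'.2).1, hA'.1,
    (Finset.mem_erase.1 hB''.2).1, hB''.1, hunit A hA hAne, hunit B hB' hBne, hd, fun χ h2 h3 h4 h5 =>
    hrest χ (Finset.mem_erase.2 ⟨h5, Finset.mem_erase.2 ⟨h4, Finset.mem_erase.2 ⟨h3,
      Finset.mem_erase.2 ⟨h2, Finset.mem_univ _⟩⟩⟩⟩)⟩

/-- A further constituent belongs to one character and its twin only. -/
theorem coef_excl {l m : E →* ℂˣ} {χ : IrrCharacter G} (h1 : χ ≠ one') (h0 : χ ≠ χ₀)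
    (hc : coef l χ ≠ 0) (hml : m ≠ l) (hmt : m ≠ twin hs l) : coef m χ = 0 := by
  classical
  by_cases hm : m = 1
  · subst hm; exact coef_one_left χ
  have hl : l ≠ 1 := fun e => hc (e ▸ coef_one_left χ)
  have hml' : l ≠ twin hs m := fun e => hmt (by rw [e, twin_twin hs S.cardNE])
  have h := rest_sums S hs hl hm
  rw [if_neg hml.symm, if_neg hml', add_zero] at h
  set R := (Finset.univ.erase (one' : IrrCharacter G)).erase χ₀ with hR
  have hmem : ∀ θ : IrrCharacter G, θ ≠ one' → θ ≠ χ₀ → θ ∈ R := fun θ a b =>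
    Finset.mem_erase.2 ⟨b, Finset.mem_erase.2 ⟨a, Finset.mem_univ _⟩⟩
  have hne : ∀ θ ∈ R, θ ≠ one' ∧ θ ≠ χ₀ := fun θ hθ =>
    ⟨(Finset.mem_erase.1 (Finset.mem_erase.1 hθ).2).1, (Finset.mem_erase.1 hθ).1⟩
  by_cases hfix : twin hs l = l
  · obtain ⟨A, B, hAB, hA1, hA0, hB1, hB0, hkA, hkB, hdeg, hother⟩ := exists_pair S hs hl hfix
    rw [← Finset.add_sum_erase _ _ (hmem A hA1 hA0),
      ← Finset.add_sum_erase _ _ (Finset.mem_erase.2 ⟨hAB.symm, hmem B hB1 hB0⟩),
      Finset.sum_eq_zero (fun θ hθ => by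
        obtain ⟨hθB, hθ'⟩ := Finset.mem_erase.1 hθ
        obtain ⟨hθA, hθR⟩ := Finset.mem_erase.1 hθ'
        rw [hother θ (hne θ hθR).1 (hne θ hθR).2 hθA hθB, zero_mul]), add_zero] at h
    -- both vanish
    suffices hz : coef m A = 0 ∧ coef m B = 0 by
      by_contra hcm
      have hcA : χ = A ∨ χ = B := by
        by_contra hcon; push Not at hcon; exact hc (hother χ h1 h0 hcon.1 hcon.2)
      rcases hcA with rfl | rfl
      · exact hcm hz.1
      · exact hcm hz.2
    by_contra hnz
    have hA2 : coef m A ≠ 0 := fun hA => hnz ⟨hA, by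
      rw [hA, mul_zero, zero_add] at h
      exact (mul_eq_zero.1 h).resolve_left fun e => by rw [e] at hkB; norm_num at hkB⟩
    have hB2 : coef m B ≠ 0 := fun hB => hA2 (by
      rw [hB, mul_zero, add_zero] at h
      exact (mul_eq_zero.1 h).resolve_left fun e => by rw [e] at hkA; norm_num at hkA)
    by_cases hmfix : twin hs m = m
    · obtain ⟨C, D, hCD, -, -, -, -, hkC, hkD, hdeg', hother'⟩ := exists_pair S hs hm hmfix
      have hAC : A = C ∨ A = D := by
        by_contra hcon; push Not at hcon; exact hA2 (hother' A hA1 hA0 hcon.1 hcon.2)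
      have hBC : B = C ∨ B = D := by
        by_contra hcon; push Not at hcon; exact hB2 (hother' B hB1 hB0 hcon.1 hcon.2)
      have hd2 : coef m A * (charDegree (A : G → ℂ) : ℤ) + coef m B * (charDegree (B : G → ℂ) : ℤ) =
          -((p : ℤ) + 1) := by
        rcases hAC with rfl | rfl <;> rcases hBC with rfl | rfl
        · exact absurd rfl hAB
        · exact hdeg'
        · rw [add_comm]; exact hdeg'
        · exact absurd rfl hAB
      have hkA' : coef m A * coef m A = 1 := by rcases hAC with rfl | rfl <;> assumption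
      have hkB' : coef m B * coef m B = 1 := by rcases hBC with rfl | rfl <;> assumption
      have dA : 0 < charDegree (A : G → ℂ) := BlockB.irr_degree_pos A
      have dB : 0 < charDegree (B : G → ℂ) := BlockB.irr_degree_pos B
      rcases mul_self_eq_one_iff.1 hkA with a1 | a1 <;> rcases mul_self_eq_one_iff.1 hkB with b1 | b1 <;>
        rcases mul_self_eq_one_iff.1 hkA' with a2 | a2 <;>
        rcases mul_self_eq_one_iff.1 hkB' with b2 | b2 <;>
        rw [a1, b1] at hdeg <;> rw [a2, b2] at hd2 <;> rw [a1, b1, a2, b2] at h <;> omega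
    · obtain ⟨η, -, -, -, -, hother'⟩ := exists_eta S hs hm hmfix
      by_cases hAη : A = η
      · exact hB2 (hother' B hB1 hB0 fun e => hAB (hAη.trans e.symm))
      · exact hA2 (hother' A hA1 hA0 hAη)
  · obtain ⟨η, hη1, hη0, -, hk, hother⟩ := exists_eta S hs hl hfix
    have hχη : χ = η := by
      by_contra hne'; exact hc (hother χ h1 h0 hne')
    subst hχη
    rw [Finset.sum_eq_single χ (fun θ hθ hne' => by
      rw [hother θ (hne θ hθ).1 (hne θ hθ).2 hne', zero_mul]) (fun h' => absurd (hmem χ h1 h0) h'), hk] at h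
    omega

end

end CfsgLib.Block.PrimeTI
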