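import Cfsg.Agent.Lib.Block.PrimeTI.Setting
import Cfsg.Agent.Lib.Char.Induce

/-!
The differences `1 - l` induced from the trivial-intersection complement: values and inner products.
-/

set_option autoImplicit false
set_option linter.unusedSectionVars false

namespace CfsgLib.Block.PrimeTI

open Cfsg CfsgLib CfsgLib.Block
open scoped ComplexConjugate

universe u

variable {G : Type u} [Group G] [Finite G]

/-- An element of the normalizer of `E` outside `E`. -/
structure Outer (E : Subgroup G) (s : G) : Prop where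
  mem : s ∈ Subgroup.normalizer (E : Set G)
  notin : s ∉ E

theorem exists_outer (E : Subgroup G)
    (h : Nat.card (Subgroup.normalizer (E : Set G)) = 2 * Nat.card E) : ∃ s, Outer E s := by
  by_contra hcon
  push Not at hcon
  have hle : Subgroup.normalizer (E : Set G) ≤ E := fun x hx => by
    by_contra hxE
    exact hcon x ⟨hx, hxE⟩
  have := Subgroup.card_le_of_le hle
  have := Nat.card_pos (α := E)
  omega

variable {E : Subgroup G} {s : G}

theorem Outer.conj_mem (hs : Outer E s) {a : G} (ha : a ∈ E) : s * a * s⁻¹ ∈ E :=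
  (Subgroup.mem_normalizer_iff.1 hs.mem a).1 ha

/-- Conjugation by `s` on `E`. -/
def conjE (hs : Outer E s) : E →* E where
  toFun a := ⟨s * a * s⁻¹, hs.conj_mem a.2⟩
  map_one' := Subtype.ext (by simp)
  map_mul' a b := Subtype.ext (by simp [mul_assoc])

theorem coe_conjE (hs : Outer E s) (a : E) : (conjE hs a : G) = s * a * s⁻¹ := rfl

theorem Outer.sq_mem (hs : Outer E s)
    (hcard : Nat.card (Subgroup.normalizer (E : Set G)) = 2 * Nat.card E) : s * s ∈ E := by
  have hidx : (E.subgroupOf (Subgroup.normalizer (E : Set G))).index = 2 := by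
    have h := (E.subgroupOf (Subgroup.normalizer (E : Set G))).card_mul_index
    rw [Nat.card_congr (Subgroup.subgroupOfEquivOfLe Subgroup.le_normalizer).toEquiv, hcard,
      mul_comm 2] at h
    exact Nat.eq_of_mul_eq_mul_left Nat.card_pos h
  have h := Subgroup.mul_self_mem_of_index_two hidx (⟨s, hs.mem⟩ : Subgroup.normalizer (E : Set G))
  exact h

theorem Outer.split (hs : Outer E s)
    (hcard : Nat.card (Subgroup.normalizer (E : Set G)) = 2 * Nat.card E) {x : G}
    (hx : x ∈ Subgroup.normalizer (E : Set G)) (hxE : x ∉ E) : ∃ b ∈ E, x = s * b := by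
  have hidx : (E.subgroupOf (Subgroup.normalizer (E : Set G))).index = 2 := by
    have h := (E.subgroupOf (Subgroup.normalizer (E : Set G))).card_mul_index
    rw [Nat.card_congr (Subgroup.subgroupOfEquivOfLe Subgroup.le_normalizer).toEquiv, hcard,
      mul_comm 2] at h
    exact Nat.eq_of_mul_eq_mul_left Nat.card_pos h
  refine ⟨s⁻¹ * x, ?_, by group⟩
  exact (Subgroup.mul_mem_iff_of_index_two hidx (a := (⟨s, hs.mem⟩ : Subgroup.normalizer (E : Set G))⁻¹)
    (b := ⟨x, hx⟩)).2 (iff_of_false
      (fun h => hs.notin (E.inv_mem_iff.1 h)) hxE)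

theorem conjE_conjE [IsMulCommutative E] (hs : Outer E s)
    (hcard : Nat.card (Subgroup.normalizer (E : Set G)) = 2 * Nat.card E) (a : E) :
    conjE hs (conjE hs a) = a := by
  refine Subtype.ext ?_
  show s * (s * a * s⁻¹) * s⁻¹ = a
  have h : s * s * (a : G) = a * (s * s) :=
    congrArg Subtype.val (mul_comm' (⟨s * s, hs.sq_mem hcard⟩ : E) a)
  calc s * (s * a * s⁻¹) * s⁻¹ = s * s * a * (s * s)⁻¹ := by group
    _ = a := by rw [h, mul_inv_cancel_right]

/-- The conjugate character. -/
def twin (hs : Outer E s) (l : E →* ℂˣ) : E →* ℂˣ := l.comp (conjE hs)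

theorem twin_twin [IsMulCommutative E] (hs : Outer E s)
    (hcard : Nat.card (Subgroup.normalizer (E : Set G)) = 2 * Nat.card E) (l : E →* ℂˣ) :
    twin hs (twin hs l) = l :=
  MonoidHom.ext fun a => congrArg l (conjE_conjE hs hcard a)

theorem twin_ne_one [IsMulCommutative E] (hs : Outer E s)
    (hcard : Nat.card (Subgroup.normalizer (E : Set G)) = 2 * Nat.card E) {l : E →* ℂˣ} (h : l ≠ 1) :
    twin hs l ≠ 1 := fun e => h (by rw [← twin_twin hs hcard l, e]; rfl)

/-- The function `1 - l` on `E`. -/
def oneSub (l : E →* ℂˣ) : E → ℂ := fun a => 1 - (l a : ℂ)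

/-- The induced difference. -/
noncomputable def Phi [Fintype G] (l : E →* ℂˣ) : G → ℂ := indFun E (oneSub l)

section

variable [Fintype G]

theorem Phi_isGeneralized (l : E →* ℂˣ) : IsGeneralizedCharacter G (Phi l) :=
  Char.isGeneralized_indFun E (Char.isGeneralized_sub
    (Char.isGeneralized_of_isCharacter (Char.isCharacter_one (G := E)))
    (Char.isGeneralized_of_isCharacter (Char.irr_isCharacter (Char.isIrrCharacter_linear l))))

theorem Phi_isClassFunction (l : E →* ℂˣ) : IsClassFunction G (Phi l) :=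
  Char.indFun_isClassFunction E _

theorem Phi_apply [IsMulCommutative E] (hs : Outer E s)
    (hcard : Nat.card (Subgroup.normalizer (E : Set G)) = 2 * Nat.card E)
    (hTI : ∀ g : G, g ∉ Subgroup.normalizer (E : Set G) → ∀ a ∈ E, g * a * g⁻¹ ∈ E → a = 1)
    (l : E →* ℂˣ) (a : E) :
    Phi l (a : G) = oneSub l a + oneSub (twin hs l) a := by
  classical
  by_cases ha : a = 1
  · subst ha
    rw [OneMemClass.coe_one, Phi, Char.indFun_apply_one]
    simp [oneSub, twin]
  set N := Subgroup.normalizer (E : Set G) with hN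
  have hterm : ∀ g : G, Cfsg.extendByZero E (oneSub l) (g⁻¹ * a * g) =
      (if g ∈ E then oneSub l a else 0) + (if g ∈ N ∧ g ∉ E then oneSub (twin hs l) a else 0) := by
    intro g
    by_cases hgE : g ∈ E
    · rw [if_pos hgE, if_neg (fun h => h.2 hgE), add_zero]
      have h : g⁻¹ * a * g = a := by
        have h1 : (a : G) * g = g * a := congrArg Subtype.val (mul_comm' a ⟨g, hgE⟩)
        rw [mul_assoc, h1, inv_mul_cancel_left]
      rw [h, Char.extendByZero_coe]
    rw [if_neg hgE, zero_add]
    by_cases hgN : g ∈ N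
    · rw [if_pos ⟨hgN, hgE⟩]
      obtain ⟨b, hb, rfl⟩ := hs.split hcard hgN hgE
      have h : (s * b)⁻¹ * a * (s * b) = (conjE hs a : G) := by
        rw [coe_conjE]
        have hsb : s⁻¹ * (a : G) * s ∈ E := (Subgroup.mem_normalizer_iff''.1 hs.mem (a : G)).1 a.2
        have h1 : s⁻¹ * (a : G) * s = s * a * s⁻¹ := by
          have h2 : s * s * (a : G) = a * (s * s) :=
            congrArg Subtype.val (mul_comm' (⟨s * s, hs.sq_mem hcard⟩ : E) a)
          calc s⁻¹ * (a : G) * s = s⁻¹ * ((a : G) * (s * s)) * s⁻¹ := by group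
            _ = s * a * s⁻¹ := by rw [← h2]; group
        have h2 : s⁻¹ * (a : G) * s * b = b * (s⁻¹ * (a : G) * s) :=
          congrArg Subtype.val (mul_comm' (⟨_, hsb⟩ : E) ⟨b, hb⟩)
        calc (s * b)⁻¹ * a * (s * b) = b⁻¹ * (s⁻¹ * (a : G) * s * b) := by group
          _ = s * a * s⁻¹ := by rw [h2, inv_mul_cancel_left, h1]
      rw [h, Char.extendByZero_coe]
      rfl
    · rw [if_neg (fun h => hgN h.1)]
      refine Char.extendByZero_of_not_mem _ fun hm => ha (Subtype.ext ?_)
      refine hTI g⁻¹ (fun h => hgN (by simpa using N.inv_mem h)) a a.2 ?_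
      simpa using hm
  rw [Phi, Char.indFun_def, Finset.sum_congr rfl fun g _ => hterm g, Finset.sum_add_distrib,
    ← Finset.sum_filter, ← Finset.sum_filter, Finset.sum_const, Finset.sum_const, nsmul_eq_mul,
    nsmul_eq_mul]
  have h1 : (Finset.univ.filter fun g : G => g ∈ E).card = Nat.card E := by
    rw [Nat.card_eq_fintype_card, Fintype.card_subtype]
  have h2 : (Finset.univ.filter fun g : G => g ∈ N ∧ g ∉ E).card = Nat.card E := by
    have h3 : (Finset.univ.filter fun g : G => g ∈ N).card = 2 * Nat.card E := by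
      rw [← hcard, Nat.card_eq_fintype_card, Fintype.card_subtype]
    have h4 : (Finset.univ.filter fun g : G => g ∈ N ∧ g ∉ E) =
        (Finset.univ.filter fun g : G => g ∈ N) \ (Finset.univ.filter fun g : G => g ∈ E) := by
      ext g; simp
    rw [h4, Finset.card_sdiff_of_subset (fun g hg => by
      simp only [Finset.mem_filter, Finset.mem_univ, true_and] at hg ⊢
      exact Subgroup.le_normalizer hg), h3, h1]
    omega
  rw [h1, h2, mul_add, ← mul_assoc, ← mul_assoc,
    inv_mul_cancel₀ (Nat.cast_ne_zero.2 Nat.card_pos.ne'), one_mul, one_mul]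

theorem Phi_inner [Fintype E] (l : E →* ℂˣ) {χ : G → ℂ} (hχ : IsClassFunction G χ) :
    classInner (Phi l) χ = classInner (oneSub l) (fun a : E => χ a) :=
  Char.frobenius_reciprocity E _ χ hχ

theorem inner_oneSub [Fintype E] [IsMulCommutative E] {l : E →* ℂˣ} (hl : l ≠ 1) (m : E →* ℂˣ)
    [Decidable (l = m)] [Decidable (m = 1)] :
    classInner (oneSub l) (fun a : E => (m a : ℂ)) =
      (if m = 1 then 1 else 0) - (if l = m then 1 else 0) := by
  classical
  have e : oneSub l = (fun a : E => ((1 : E →* ℂˣ) a : ℂ)) - fun a : E => (l a : ℂ) := by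
    funext a; simp [oneSub]
  rw [e, Char.classInner_sub_left, Char.irr_classInner (Char.isIrrCharacter_linear _)
    (Char.isIrrCharacter_linear _), Char.irr_classInner (Char.isIrrCharacter_linear _)
    (Char.isIrrCharacter_linear _)]
  congr 1
  · refine if_congr ⟨fun h => ?_, fun h => by subst h; rfl⟩ rfl rfl
    exact MonoidHom.ext fun a => Units.ext (congrFun h a).symm
  · refine if_congr ⟨fun h => ?_, fun h => by subst h; rfl⟩ rfl rfl
    exact MonoidHom.ext fun a => Units.ext (congrFun h a)

theorem inner_Phi [Fintype E] [IsMulCommutative E] (hs : Outer E s)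
    (hcard : Nat.card (Subgroup.normalizer (E : Set G)) = 2 * Nat.card E)
    (hTI : ∀ g : G, g ∉ Subgroup.normalizer (E : Set G) → ∀ a ∈ E, g * a * g⁻¹ ∈ E → a = 1)
    {l m : E →* ℂˣ} (hl : l ≠ 1) (hm : m ≠ 1) [Decidable (l = m)] [Decidable (l = twin hs m)] :
    classInner (Phi l) (Phi m) =
      2 + (if l = m then 1 else 0) + (if l = twin hs m then 1 else 0) := by
  classical
  rw [Phi_inner l (Phi_isClassFunction m)]
  have e : (fun a : E => Phi m (a : G)) = (fun a : E => ((1 : E →* ℂˣ) a : ℂ)) - (fun a : E => (m a : ℂ))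
      + ((fun a : E => ((1 : E →* ℂˣ) a : ℂ)) - fun a : E => (twin hs m a : ℂ)) := by
    funext a; rw [Phi_apply hs hcard hTI m a]; simp [oneSub]
  rw [e, Char.classInner_add_right, Char.classInner_sub_right, Char.classInner_sub_right,
    inner_oneSub hl, inner_oneSub hl, inner_oneSub hl, if_pos rfl, if_neg hl, if_neg hm,
    if_neg (twin_ne_one hs hcard hm)]
  ring

end

end CfsgLib.Block.PrimeTI
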