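import Cfsg.Agent.Lib.Block.PrimeTI.Odd
import Cfsg.Agent.Lib.Block.PrimeTI.Even
import Cfsg.Agent.Lib.Block.SylowTwoP
import Cfsg.Agent.Lib.ClassK.SmallSimple
import Cfsg.Agent.Lib.Classical.PSLTwoMaximal
import Cfsg.Agent.Lib.Classical.SLTwoSylow

/-!
A transitive group of prime degree with a unique character of degree `p` and a trivial-intersection
complement is `PSL(2, p)` with `p` one of `5`, `7`, `11`.
-/

set_option autoImplicit false
set_option linter.unusedSectionVars false

namespace CfsgLib.Block.PrimeTI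

open Cfsg CfsgLib CfsgLib.Block MulAction
open scoped Pointwise MatrixGroups

universe u w

/-- Every involution of `SL(2, 2^a)` commutes with a subgroup of order `2^a`. -/
theorem le_card_centralizer_sl {F : Type} [Field F] [Fintype F] [CharP F 2] {x : SL(2, F)}
    (hx : x * x = 1) : Fintype.card F ≤ Nat.card (Subgroup.centralizer ({x} : Set SL(2, F))) := by
  classical
  haveI : Fact (Nat.Prime 2) := ⟨Nat.prime_two⟩
  obtain ⟨U, hU⟩ := Classical.exists_sylow_uSL (F := F) 2
  obtain ⟨T, hT⟩ := (IsPGroup.of_card (p := 2) (n := (Nat.log 2 (Nat.card (Subgroup.zpowers x))))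
    (G := Subgroup.zpowers x) (by
      have h : Nat.card (Subgroup.zpowers x) ∣ 2 := by
        rw [Nat.card_zpowers]; exact orderOf_dvd_of_pow_eq_one (by rw [pow_two, hx])
      rcases (Nat.dvd_prime Nat.prime_two).1 h with e | e <;> rw [e] <;> norm_num)).exists_le_sylow
  obtain ⟨g, hg⟩ := MulAction.exists_smul_eq SL(2, F) U T
  have hxT : x ∈ (T : Subgroup SL(2, F)) := hT (Subgroup.mem_zpowers x)
  have hab : ∀ a ∈ (T : Subgroup SL(2, F)), ∀ b ∈ (T : Subgroup SL(2, F)), a * b = b * a := by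
    rw [← hg, Sylow.coe_subgroup_smul, hU]
    rintro _ ⟨a, ⟨i, rfl⟩, rfl⟩ _ ⟨b, ⟨j, rfl⟩, rfl⟩
    show g * Classical.uElt i * g⁻¹ * (g * Classical.uElt j * g⁻¹) = g * Classical.uElt j * g⁻¹ * (g * Classical.uElt i * g⁻¹)
    simp only [mul_assoc, inv_mul_cancel_left]
    simp only [← mul_assoc (Classical.uElt _) (Classical.uElt _), ← Classical.uElt_add, add_comm]
  have hle : (T : Subgroup SL(2, F)) ≤ Subgroup.centralizer ({x} : Set SL(2, F)) := fun a ha =>
    Subgroup.mem_centralizer_singleton_iff.2 (hab a ha x hxT)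
  refine le_trans ?_ (Nat.le_of_dvd Nat.card_pos (Subgroup.card_dvd_of_le hle))
  rw [Nat.card_congr (T.equiv U).toEquiv, hU, Classical.card_uSL, Nat.card_eq_fintype_card]

variable {α : Type w} [Fintype α] [DecidableEq α] {p : ℕ} [Fact p.Prime]

/-- The case of a complement of order two. -/
theorem psl_of_two (hα : Fintype.card α = p) (G : Subgroup (Equiv.Perm α)) (P : Sylow p G)
    (E : Subgroup G) {χ₀ : IrrCharacter G} [IsMulCommutative E] (S : Setting p P E χ₀)
    (h2 : Nat.card E = 2) :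
    p = 5 ∧ Nonempty (G ≃* Matrix.ProjectiveSpecialLinearGroup (Fin 2) (ZMod p)) := by
  classical
  haveI := Fintype.ofFinite G
  haveI := Fintype.ofFinite E
  haveI := S.simple
  have hp := (Fact.out : p.Prime)
  have hp5 : 4 ∣ p - 1 := by
    have h := S.even_t
    rwa [h2] at h
  have hp2 : 2 < p := by
    by_contra h
    have h1 : p = 2 := by have := hp.two_le; omega
    subst h1
    omega
  have hnn : ¬ (P : Subgroup G).Normal := fun hn => by
    have hP : Nat.card (P : Subgroup G) = p := S.cardP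
    rcases IsSimpleGroup.eq_bot_or_eq_top_of_normal _ hn with h | h
    · rw [h, Subgroup.card_bot] at hP; exact hp.ne_one hP.symm
    · have hN := S.cardN
      rw [Subgroup.normalizer_eq_top_iff.2 hn, ← h, hP, h2] at hN
      omega
  rcases TriplyPrime.normal_or_sl_two hp2 hα G P (by rw [S.cardN, h2, mul_comm]) with h |
    ⟨a, F, iF, iF', hpa, hF, ⟨ψ⟩⟩
  · exact absurd h hnn
  have ha0 : a ≠ 0 := fun h => by rw [h] at hpa; omega
  haveI : CharP F 2 := by
    refine ringChar.of_eq (FiniteField.even_card_iff_char_two.2 ?_)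
    rw [hF]
    exact Nat.mod_eq_zero_of_dvd (dvd_pow_self 2 ha0)
  obtain ⟨z, hz1, hzz⟩ := exists_invol S (dvd_of_eq h2.symm)
  have hzzG : (z : G) * z = 1 := congrArg Subtype.val hzz
  have hcen : Nat.card (Subgroup.centralizer ({(z : G)} : Set G)) = 4 := by
    rw [centralizer_invol S hz1 hzz, S.cardNE, h2]
  have hle := le_card_centralizer_sl (x := ψ (z : G)) (by rw [← map_mul, hzzG, map_one])
  have hmap : (Subgroup.centralizer ({(z : G)} : Set G)).map ψ.toMonoidHom =
      Subgroup.centralizer ({ψ (z : G)} : Set SL(2, F)) := by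
    ext y
    simp only [Subgroup.mem_map, Subgroup.mem_centralizer_singleton_iff, MulEquiv.coe_toMonoidHom]
    constructor
    · rintro ⟨g, hg, rfl⟩; rw [← map_mul, hg, map_mul]
    · intro hy
      exact ⟨ψ.symm y, ψ.injective (by simpa using hy), ψ.apply_symm_apply y⟩
  rw [← hmap, Nat.card_congr (Subgroup.equivMapOfInjective _ ψ.toMonoidHom ψ.injective).toEquiv.symm,
    hcen, hF] at hle
  have ha2 : a ≤ 2 := (Nat.pow_le_pow_iff_right (by norm_num)).1 (show 2 ^ a ≤ 2 ^ 2 by simpa using hle)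
  obtain rfl : a = 2 := by
    rcases (show a = 1 ∨ a = 2 by omega) with h | h
    · subst h; norm_num at hpa; subst hpa; omega
    · exact h
  norm_num at hpa
  subst hpa
  refine ⟨rfl, ?_⟩
  have hG : Nat.card G = 60 := by
    rw [Nat.card_congr ψ.toEquiv, Classical.card_sl_two_eq, hF]; norm_num
  have hH : Nat.card (Matrix.ProjectiveSpecialLinearGroup (Fin 2) (ZMod 5)) = 60 :=
    Classical.card_psl_two_four (Or.inr (ZMod.card 5))
  haveI : IsSimpleGroup (Matrix.ProjectiveSpecialLinearGroup (Fin 2) (ZMod 5)) :=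
    ClassK.isSimpleGroup_psl_two (by rw [ZMod.card 5]; norm_num)
  exact ClassK.nonempty_equiv_sixty hG hH

/-- The theorem. -/
theorem main (hα : Fintype.card α = p) (G : Subgroup (Equiv.Perm α)) [IsPretransitive G α]
    (huniq : ∃! χ : IrrCharacter G, charDegree (χ : G → ℂ) = p) (P : Sylow p G) (E : Subgroup G)
    (hPE : (P : Subgroup G) ⊔ E = Subgroup.normalizer ((P : Subgroup G) : Set G))
    (hPE' : (P : Subgroup G) ⊓ E = ⊥)
    (hNE : Nat.card (Subgroup.normalizer (E : Set G)) = 2 * Nat.card E)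
    (hTI : ∀ g : G, g ∉ Subgroup.normalizer (E : Set G) →
      E ⊓ E.map (MulAut.conj g).toMonoidHom = ⊥) :
    (p = 5 ∨ p = 7 ∨ p = 11) ∧ ∃ (F : Type) (_ : Field F) (_ : Fintype F), Fintype.card F = p ∧
      Nonempty (G ≃* Matrix.ProjectiveSpecialLinearGroup (Fin 2) F) := by
  classical
  have hp := (Fact.out : p.Prime)
  obtain ⟨χ₀, S⟩ := setting_of_perm hα G huniq P E hPE hPE' hNE hTI
  haveI := Fintype.ofFinite G
  haveI := Fintype.ofFinite E
  haveI : IsMulCommutative E := by
    haveI := S.cycE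
    exact ⟨⟨IsCyclic.commGroup.mul_comm⟩⟩
  have he2 := S.two_le
  have hle := Nat.le_of_dvd (by have := hp.two_le; omega) S.even_t
  have hiso : ∃ (F : Type) (_ : Field F) (_ : Fintype F), Fintype.card F = p ∧
      Nonempty (G ≃* Matrix.ProjectiveSpecialLinearGroup (Fin 2) F) := by
    rcases Nat.even_or_odd (Nat.card E) with he | he
    · rcases Nat.lt_or_ge (Nat.card E) 3 with h | h
      · obtain ⟨-, hψ⟩ := psl_of_two hα G P E S (by omega)
        exact ⟨ZMod p, inferInstance, inferInstance, ZMod.card p, hψ⟩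
      · exact psl_of_even S (even_iff_two_dvd.1 he) h
    · obtain ⟨s, hs⟩ := exists_outer E S.cardNE
      exact ⟨ZMod p, inferInstance, inferInstance, ZMod.card p, psl_of_odd S hs he⟩
  refine ⟨?_, hiso⟩
  obtain ⟨F, iF, iF', hF, ⟨ψ⟩⟩ := hiso
  by_contra hcon
  push Not at hcon
  obtain ⟨a₀⟩ : Nonempty α := Fintype.card_pos_iff.1 (by rw [hα]; exact hp.pos)
  set H := (MulAction.stabilizer G a₀).map ψ.toMonoidHom with hH
  have hidx : H.index = p := by
    rw [hH, Subgroup.index_map_of_bijective ψ.bijective, MulAction.index_stabilizer_of_transitive,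
      Nat.card_eq_fintype_card, hα]
  have hne : Fintype.card F ≠ 2 ∧ Fintype.card F ≠ 3 ∧ Fintype.card F ≠ 5 ∧
      Fintype.card F ≠ 7 ∧ Fintype.card F ≠ 9 ∧ Fintype.card F ≠ 11 := by
    rw [hF]
    exact ⟨by omega, by omega, hcon.1, hcon.2.1, fun h => absurd (h ▸ hp) (by norm_num), hcon.2.2⟩
  have := Classical.index_ge_of_ne_top hne H (fun h => hp.ne_one (by rw [← hidx, h, Subgroup.index_top]))
  omega

end CfsgLib.Block.PrimeTI
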