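import Cfsg.Agent.Lib.Block.PrimeTI.Column
import Cfsg.Agent.Lib.Char.Inner

/-!
An integral kernel, constant on double cosets of a subgroup `Q` of order `p`, bounds the multiplicity of
the trivial character of `Q` in every irreducible character orthogonal to the underlying class function.
-/

set_option autoImplicit false
set_option linter.unusedSectionVars false

namespace CfsgLib.Block.PrimeTI

open Cfsg CfsgLib CfsgLib.Block Matrix
open scoped ComplexConjugate

universe u

variable {G : Type u} [Group G] [Fintype G] {p : ℕ} [Fact p.Prime] {M : Ideal AlgInt} [M.IsPrime]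

/-- A class function orthogonal to an irreducible representation is annihilated by it. -/
theorem sum_smul_inv_eq_zero {n : ℕ} (X : G →* Matrix (Fin n) (Fin n) ℂ) {χ : IrrCharacter G}
    (hX : ∀ g, (χ : G → ℂ) g = (X g).trace) {θ : G → ℂ} (hθ : IsClassFunction G θ)
    (h0 : classInner θ (χ : G → ℂ) = 0) : ∑ g : G, θ g • X g⁻¹ = 0 := by
  classical
  let ρ : Representation ℂ G (Fin n → ℂ) :=
    (Matrix.toLinAlgEquiv' : Matrix _ _ ℂ ≃ₐ[ℂ] _).toMonoidHom.comp X
  have hρ : ρ.character = χ := funext fun g => by rw [hX g]; exact Matrix.trace_toLin'_eq (X g)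
  haveI : ρ.IsIrreducible := Char.isIrreducible_of_classInner_self ρ (by
    rw [hρ]; exact Char.irr_classInner_self χ.2)
  set A := ∑ g : G, θ g • X g⁻¹ with hA
  have hcomm : ∀ h : G, A * X h = X h * A := by
    intro h
    rw [hA, Finset.sum_mul, Finset.mul_sum]
    refine Fintype.sum_equiv (MulAut.conj h⁻¹).toEquiv _ _ fun g => ?_
    simp only [MulEquiv.toEquiv_eq_coe, MulEquiv.coe_toEquiv, MulAut.conj_apply]
    rw [Matrix.smul_mul, Matrix.mul_smul, hθ g h⁻¹, ← map_mul, ← map_mul]
    congr 2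
    group
  let T : Representation.IntertwiningMap ρ ρ := ⟨Matrix.toLinAlgEquiv' A, fun h => by
    rw [← Module.End.mul_eq_comp, ← Module.End.mul_eq_comp]
    show Matrix.toLinAlgEquiv' A * Matrix.toLinAlgEquiv' (X h) = Matrix.toLinAlgEquiv' (X h) * Matrix.toLinAlgEquiv' A
    rw [← map_mul, ← map_mul, hcomm]⟩
  obtain ⟨c, hc⟩ :=
    (Representation.IsIrreducible.algebraMap_intertwiningMap_bijective_of_isAlgClosed
      (ρ := ρ) (k := ℂ)).2 T
  have hc2 : A = c • (1 : Matrix (Fin n) (Fin n) ℂ) := by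
    refine Matrix.toLinAlgEquiv'.injective ?_
    rw [map_smul, map_one]
    have h := congr_arg Representation.IntertwiningMap.toLinearMap hc
    simp only [T] at h
    rw [← h]
    ext v
    simp [Algebra.algebraMap_eq_smul_one]
  have htr : A.trace = 0 := by
    rw [hA, Matrix.trace_sum]
    rw [Char.classInner_def, mul_eq_zero] at h0
    refine Eq.trans (Finset.sum_congr rfl fun g _ => ?_) (h0.resolve_left
      (inv_ne_zero (Nat.cast_ne_zero.2 Nat.card_pos.ne')))
    rw [Matrix.trace_smul, smul_eq_mul, irr_conj_eq χ.2, hX]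
  rw [hc2, Matrix.trace_smul, Matrix.trace_one, Fintype.card_fin, smul_eq_mul, mul_eq_zero] at htr
  rcases htr with h | h
  · rw [hc2, h, zero_smul]
  · have : n = 0 := by exact_mod_cast h
    subst this
    exact Subsingleton.elim _ _

/-- The multiplicity bound. -/
theorem exists_mult_le (hM : IsPModular p M) (Q : Subgroup G) [Fintype Q] (hQ : Nat.card Q = p)
    {θ : G → ℂ} (hθ : IsClassFunction G θ) (K : G → ℤ)
    (hK : ∀ g, ∑ u : Q, θ (g * (u : G)) = (p : ℂ) * (K g : ℂ)) {e : ℕ} (he : ¬ p ∣ e)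
    (hKQ : ∀ g ∈ Q, K g = e) (hKN : ∀ g ∈ Subgroup.normalizer (Q : Set G), g ∉ Q → K g = 0)
    {χ : IrrCharacter G} (h0 : classInner θ (χ : G → ℂ) = 0) :
    ∃ r : ℕ, ∑ u : Q, (χ : G → ℂ) u = ((p * r : ℕ) : ℂ) ∧ p * r ≤ charDegree (χ : G → ℂ) := by
  classical
  haveI : (lideal M).IsMaximal := inferInstance
  letI := Ideal.Quotient.field (lideal M)
  have hp := (Fact.out : p.Prime)
  have hp0 : (p : ℂ) ≠ 0 := Nat.cast_ne_zero.2 hp.ne_zero
  obtain ⟨d, hd, X, hX⟩ : ∃ (d : ℕ), d = charDegree (χ : G → ℂ) ∧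
      ∃ X : G →* Matrix (Fin d) (Fin d) (lring M),
        ∀ g, (χ : G → ℂ) g = ((X g).map (lring M).subtype).trace :=
    ⟨_, rfl, SmallBlock.exists_local_rep hM (Char.irr_isCharacter χ.2)⟩
  rw [← hd]
  let XC : G →* Matrix (Fin d) (Fin d) ℂ := (lring M).subtype.mapMatrix.toMonoidHom.comp X
  set S : Matrix (Fin d) (Fin d) (lring M) := ∑ u : Q, X u with hS
  have hQc : Fintype.card Q = p := by rw [← Nat.card_eq_fintype_card]; exact hQ
  have hSl : ∀ u ∈ Q, X u * S = S := fun u hu => by
    rw [hS, Finset.mul_sum]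
    exact Fintype.sum_equiv (Equiv.mulLeft ⟨u, hu⟩) _ _ fun v => by simp
  have hSr : ∀ u ∈ Q, S * X u = S := fun u hu => by
    rw [hS, Finset.sum_mul]
    exact Fintype.sum_equiv (Equiv.mulRight ⟨u, hu⟩) _ _ fun v => by simp
  have hSS : S * S = (p : lring M) • S := by
    nth_rewrite 1 [hS]
    rw [Finset.sum_mul, Finset.sum_congr rfl fun (u : Q) _ => hSl u u.2, Finset.sum_const,
      Finset.card_univ, hQc, Nat.cast_smul_eq_nsmul]
  have hSrinv : ∑ u : Q, X ((u : G)⁻¹) = S := by
    rw [hS]; exact Fintype.sum_equiv (Equiv.inv Q) _ _ fun u => by simp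
  -- the kernel is constant on double cosets
  have hKr : ∀ g, ∀ v ∈ Q, K (g * v) = K g := by
    intro g v hv
    have h : (p : ℂ) * (K (g * v) : ℂ) = (p : ℂ) * (K g : ℂ) := by
      rw [← hK, ← hK]
      exact Fintype.sum_equiv (Equiv.mulLeft ⟨v, hv⟩) _ _ fun u => by simp [mul_assoc]
    exact_mod_cast mul_left_cancel₀ hp0 h
  have hKl : ∀ g, ∀ u ∈ Q, K (u * g) = K g := by
    intro g u hu
    have h : (p : ℂ) * (K (u * g) : ℂ) = (p : ℂ) * (K g : ℂ) := by
      rw [← hK, ← hK]
      refine Fintype.sum_equiv (Equiv.mulRight ⟨u, hu⟩) _ _ fun w => ?_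
      rw [Equiv.coe_mulRight, Subgroup.coe_mul, ← hθ (u * g * (w : G)) u⁻¹]
      congr 1
      group
    exact_mod_cast mul_left_cancel₀ hp0 h
  -- the matrix equation
  set F : Matrix (Fin d) (Fin d) (lring M) := ∑ g : G, (K g : lring M) • (S * X g⁻¹) with hF
  have hA := sum_smul_inv_eq_zero XC (χ := χ) (fun g => hX g) hθ h0
  have hFC : F.map (lring M).subtype = 0 := by
    set SC := S.map (lring M).subtype with hSC
    have h1 : F.map (lring M).subtype = ∑ g : G, (K g : ℂ) • (SC * XC g⁻¹) := by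
      rw [hF, ← RingHom.mapMatrix_apply, map_sum]
      refine Finset.sum_congr rfl fun g _ => ?_
      rw [← show (lring M).subtype.mapMatrix (S * X g⁻¹) = SC * XC g⁻¹ from map_mul _ _ _]
      ext i j
      simp
    rw [h1]
    refine (smul_eq_zero.1 (?_ : (p : ℂ) • (∑ g : G, (K g : ℂ) • (SC * XC g⁻¹)) = 0)).resolve_left hp0
    rw [Finset.smul_sum, Finset.sum_congr rfl fun g _ => by rw [smul_smul, ← hK, Finset.sum_smul],
      Finset.sum_comm]
    refine Finset.sum_eq_zero fun u _ => ?_
    calc ∑ g : G, θ (g * (u : G)) • (SC * XC g⁻¹)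
        = ∑ g : G, θ g • (SC * XC ((u : G) * g⁻¹)) := by
          refine Fintype.sum_equiv (Equiv.mulRight (u : G)) _ _ fun g => ?_
          rw [Equiv.coe_mulRight, _root_.mul_inv_rev, mul_inv_cancel_left]
      _ = SC * XC u * ∑ g : G, θ g • XC g⁻¹ := by
          rw [Finset.mul_sum]
          exact Finset.sum_congr rfl fun g _ => by rw [Matrix.mul_smul, map_mul, mul_assoc]
      _ = 0 := by rw [hA, mul_zero]
  have hF0 : F = 0 := Matrix.map_injective Subtype.val_injective (hFC.trans (by ext i j; simp))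
  -- double cosets
  set N := Subgroup.normalizer (Q : Set G) with hN
  let D : G → Finset G := fun g => (Finset.univ : Finset (Q × Q)).image fun w => (w.1 : G) * g * w.2
  have hDeq : ∀ g : G, ∀ u ∈ Q, ∀ v ∈ Q, D (u * g * v) = D g := by
    intro g u hu v hv
    ext x
    simp only [D, Finset.mem_image, Finset.mem_univ, true_and, Prod.exists]
    constructor
    · rintro ⟨a, b, rfl⟩
      exact ⟨a * ⟨u, hu⟩, ⟨v, hv⟩ * b, by simp [mul_assoc]⟩
    · rintro ⟨a, b, rfl⟩
      exact ⟨a * ⟨u, hu⟩⁻¹, ⟨v, hv⟩⁻¹ * b, by simp [mul_assoc]⟩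
  have hDself : ∀ g : G, g ∈ D g := fun g =>
    Finset.mem_image.2 ⟨1, Finset.mem_univ _, by simp⟩
  let rep : G → G := fun g => (⟨g, hDself g⟩ : (D g).Nonempty).choose
  have hrep : ∀ g, ∃ u ∈ Q, ∃ v ∈ Q, rep g = u * g * v := fun g => by
    obtain ⟨w, -, hw⟩ := Finset.mem_image.1 (⟨g, hDself g⟩ : (D g).Nonempty).choose_spec
    exact ⟨w.1, w.1.2, w.2, w.2.2, hw.symm⟩
  have hrepeq : ∀ g g', D g = D g' → rep g = rep g' := by
    intro g g' h
    simp only [rep]
    congr 1
    funext x
    rw [h]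
  have hnot : ∀ g, g ∉ N → ∀ u ∈ Q, ∀ v ∈ Q, u * g * v ∉ N := fun g hg u hu v hv h => hg (by
    have h' := N.mul_mem (N.mul_mem (N.inv_mem (Subgroup.le_normalizer hu)) h)
      (N.inv_mem (Subgroup.le_normalizer hv))
    simpa [mul_assoc] using h')
  set R := (Finset.univ.filter fun g => g ∉ N).image rep with hR
  set f : G → Matrix (Fin d) (Fin d) (lring M) := fun g => (K g : lring M) • (S * X g⁻¹) with hf
  have hfree : ∑ g ∈ Finset.univ.filter (fun g => g ∉ N), f g =
      (p : lring M) • (S * (∑ r ∈ R, (K r : lring M) • X r⁻¹) * S) := by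
    have h1 : ∑ g ∈ Finset.univ.filter (fun g => g ∉ N), f g =
        ∑ x ∈ (Finset.univ : Finset (Q × Q)) ×ˢ R, f ((x.1.1 : G) * x.2 * x.1.2) := by
      refine (Finset.sum_bij (fun x _ => (x.1.1 : G) * x.2 * x.1.2) ?_ ?_ ?_ fun x _ => rfl).symm
      · intro x hx
        obtain ⟨g, hg, hgr⟩ := Finset.mem_image.1 (Finset.mem_product.1 hx).2
        obtain ⟨u, hu, v, hv, huv⟩ := hrep g
        refine Finset.mem_filter.2 ⟨Finset.mem_univ _, hnot _ ?_ _ x.1.1.2 _ x.1.2.2⟩
        rw [← hgr, huv]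
        exact hnot g (Finset.mem_filter.1 hg).2 u hu v hv
      · intro x hx y hy hxy
        obtain ⟨g, hg, hgr⟩ := Finset.mem_image.1 (Finset.mem_product.1 hx).2
        obtain ⟨g', hg', hgr'⟩ := Finset.mem_image.1 (Finset.mem_product.1 hy).2
        have hr : x.2 = y.2 := by
          rw [← hgr, ← hgr']
          refine hrepeq g g' ?_
          obtain ⟨u, hu, v, hv, huv⟩ := hrep g
          obtain ⟨u', hu', v', hv', huv'⟩ := hrep g'
          rw [← hDeq g u hu v hv, ← huv, hgr, ← hDeq x.2 x.1.1 x.1.1.2 x.1.2 x.1.2.2, hxy,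
            hDeq y.2 y.1.1 y.1.1.2 y.1.2 y.1.2.2, ← hgr', huv', hDeq g' u' hu' v' hv']
        have hrN : x.2 ∉ N := by
          obtain ⟨u, hu, v, hv, huv⟩ := hrep g
          rw [← hgr, huv]
          exact hnot g (Finset.mem_filter.1 hg).2 u hu v hv
        obtain ⟨⟨a, b⟩, r⟩ := x
        obtain ⟨⟨a', b'⟩, r'⟩ := y
        obtain rfl : r = r' := hr
        simp only at hxy hrN
        set w : G := (a' : G)⁻¹ * a with hw
        have hwQ : w ∈ Q := Q.mul_mem (Q.inv_mem a'.2) a.2
        have hwr : r⁻¹ * w * r ∈ Q := by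
          have e1 : r⁻¹ * w * r = (b' : G) * (b : G)⁻¹ := by
            rw [hw, eq_mul_inv_iff_mul_eq]
            calc r⁻¹ * ((a' : G)⁻¹ * a) * r * b = r⁻¹ * (a' : G)⁻¹ * ((a : G) * r * b) := by group
              _ = b' := by rw [hxy]; group
          rw [e1]
          exact Q.mul_mem b'.2 (Q.inv_mem b.2)
        have hw1 : w = 1 := by
          by_contra hne
          refine hrN ?_
          have hgen : ∀ v ∈ Q, v ∈ Subgroup.zpowers w := fun v hv => by
            have h := mem_zpowers_of_prime_card (g := (⟨w, hwQ⟩ : Q)) (g' := (⟨v, hv⟩ : Q)) hQ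
              fun e => hne (congrArg Subtype.val e)
            obtain ⟨j, hj⟩ := Subgroup.mem_zpowers_iff.1 h
            exact Subgroup.mem_zpowers_iff.2 ⟨j, congrArg Subtype.val hj⟩
          have hle : ∀ v ∈ Q, r⁻¹ * v * r ∈ Q := fun v hv => by
            obtain ⟨j, rfl⟩ := Subgroup.mem_zpowers_iff.1 (hgen v hv)
            have : r⁻¹ * w ^ j * r = (r⁻¹ * w * r) ^ j := by
              simpa using (conj_zpow (a := r⁻¹) (b := w) (i := j)).symm
            rw [this]
            exact Q.zpow_mem hwr j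
          have := N.inv_mem (Subgroup.mem_normalizer_iff.2 fun v => ⟨fun hv => by
            simpa using hle v hv, fun hv => by
              obtain ⟨j, hj⟩ := (mem_powers_iff_mem_zpowers.2 (Subgroup.mem_zpowers r⁻¹) :
                r⁻¹ ∈ Submonoid.powers r⁻¹)
              have hinj : Function.Injective (fun v : Q => (⟨r⁻¹ * v * r, hle v v.2⟩ : Q)) :=
                fun v v' h => Subtype.ext (by simpa using congrArg Subtype.val h)
              obtain ⟨v', hv'⟩ := Finite.injective_iff_surjective.1 hinj ⟨_, hv⟩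
              have h2 := congrArg Subtype.val hv'
              simp only [inv_inv] at h2
              have h3 : (v' : G) = v := mul_left_cancel (mul_right_cancel h2)
              rw [← h3]; exact v'.2⟩ : r⁻¹ ∈ N)
          simpa using this
        have ha : a = a' := Subtype.ext (inv_mul_eq_one.1 hw1).symm
        subst ha
        have hb : b = b' := Subtype.ext (mul_left_cancel hxy)
        subst hb
        rfl
      · intro g hg
        obtain ⟨u, hu, v, hv, huv⟩ := hrep g
        refine ⟨((⟨u, hu⟩⁻¹, ⟨v, hv⟩⁻¹), rep g), Finset.mem_product.2 ⟨Finset.mem_univ _,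
          Finset.mem_image_of_mem rep hg⟩, ?_⟩
        rw [huv]; simp [mul_assoc]
    rw [h1, Finset.sum_product, Finset.sum_comm, Finset.mul_sum R, Finset.sum_mul R, Finset.smul_sum]
    refine Finset.sum_congr rfl fun r _ => ?_
    rw [Fintype.sum_prod_type]
    have hterm : ∀ a b : Q, f ((a : G) * r * b) = (K r : lring M) • (S * X r⁻¹ * X ((a : G)⁻¹)) := by
      intro a b
      simp only [f]
      rw [hKr _ _ b.2, hKl _ _ a.2, _root_.mul_inv_rev, _root_.mul_inv_rev, map_mul, map_mul,
        ← mul_assoc S, hSr _ (Q.inv_mem b.2), ← mul_assoc]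
    rw [Finset.sum_congr rfl fun (a : Q) _ => Finset.sum_congr rfl fun (b : Q) _ => hterm a b]
    simp only [Finset.sum_const, Finset.card_univ, hQc]
    rw [← Finset.smul_sum, ← Finset.smul_sum, ← Finset.mul_sum, hSrinv, Nat.cast_smul_eq_nsmul,
      Matrix.mul_smul, Matrix.smul_mul]
  have hQsum : ∑ g ∈ Finset.univ.filter (fun g => g ∈ N), f g = (p : lring M) • ((e : lring M) • S) := by
    rw [← Finset.sum_filter_add_sum_filter_not (Finset.univ.filter fun g => g ∈ N) (fun g => g ∈ Q),
      Finset.sum_eq_zero (s := (Finset.univ.filter fun g => g ∈ N).filter fun g => ¬ g ∈ Q) fun g hg => by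
        simp only [Finset.mem_filter, Finset.mem_univ, true_and] at hg
        simp only [f]
        rw [hKN g hg.1 hg.2, Int.cast_zero, zero_smul], add_zero,
      show ((Finset.univ.filter fun g => g ∈ N).filter fun g => g ∈ Q) = Finset.univ.filter fun g => g ∈ Q by
        ext g
        simp only [Finset.mem_filter, Finset.mem_univ, true_and]
        exact ⟨fun h => h.2, fun h => ⟨Subgroup.le_normalizer h, h⟩⟩,
      Finset.sum_subtype (Finset.univ.filter fun g => g ∈ Q) (p := (· ∈ Q)) (by simp) f]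
    rw [Finset.sum_congr rfl fun (u : Q) _ => show f u = (e : lring M) • S by
      simp only [f]; rw [hKQ _ u.2, hSr _ (Q.inv_mem u.2), Int.cast_natCast],
      Finset.sum_const, Finset.card_univ, hQc]
    exact (Nat.cast_smul_eq_nsmul (lring M) p _).symm
  set W := ∑ r ∈ R, (K r : lring M) • X r⁻¹
  have heq : (e : lring M) • S + S * W * S = 0 := by
    have h := Finset.sum_filter_add_sum_filter_not (Finset.univ : Finset G) (fun g => g ∈ N) f
    rw [hQsum, hfree, ← hF, hF0, ← smul_add] at h
    refine Matrix.ext fun i j => ?_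
    have h' := congrFun (congrFun h i) j
    rw [Matrix.smul_apply, smul_eq_mul, Matrix.zero_apply, mul_eq_zero] at h'
    refine h'.resolve_left fun h2 => hp0 ?_
    have := congrArg Subtype.val h2
    simpa using this
  obtain ⟨ei, hei⟩ : ∃ ei : lring M, ei * (e : lring M) = 1 := by
    refine IsUnit.exists_left_inv (isUnit_lring_iff.2 fun h => he ?_)
    have h' : MemLocalIdeal M ((e : lring M) : ℂ) := mem_lideal.1 h
    exact (memLocalIdeal_natCast_iff hM e).1 (by simpa using h')
  set Y := -(ei • W) with hY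
  have hSYS : S * Y * S = S := by
    have h := congrArg (fun A => ei • A) heq
    simp only [smul_add, smul_smul, hei, one_smul, smul_zero] at h
    rw [hY, mul_neg, neg_mul, Matrix.mul_smul, Matrix.smul_mul]
    exact (eq_neg_of_add_eq_zero_left h).symm
  have hid : (S * Y) * (S * Y) = S * Y := by rw [← mul_assoc, hSYS]
  have hr := rank_red_idem hid
  have hle := mul_rank_sum_le hM X Q hQ
  refine ⟨((S * Y).map (red M)).rank, ?_, le_trans (Nat.mul_le_mul_left p ?_) hle⟩
  · push_cast
    rw [hr, Finset.sum_congr rfl fun (u : Q) _ => hX u, ← Matrix.trace_sum]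
    have h1 : ∑ u : Q, (X u).map (lring M).subtype = S.map (lring M).subtype := by
      rw [hS]; exact (map_sum (lring M).subtype.mapMatrix _ _).symm
    rw [h1]
    conv_lhs => rw [← hSYS]
    rw [Matrix.map_mul, Matrix.trace_mul_comm, ← Matrix.map_mul, ← mul_assoc, hSS, Matrix.smul_mul]
    simp [Matrix.trace, Matrix.diag, Finset.mul_sum]
  · rw [Matrix.map_mul]
    exact Matrix.rank_mul_le_left _ _

end CfsgLib.Block.PrimeTI
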