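import Cfsg.Agent.Lib.Block.PrimeTI.Theta
import Cfsg.Agent.Lib.Block.PrimeTI.Mult
import Cfsg.Agent.Lib.Block.BTRows
import Cfsg.Agent.Lib.Block.BTSquare
import Cfsg.Agent.Lib.Block.SmallDegreeNormal
import Cfsg.Agent.Lib.Block.SmallHalfTheorem

/-!
An odd complement: the exceptional degree is the order `e` of the complement, and the small degree
theorems give `PSL(2, p)`.
-/

set_option autoImplicit false
set_option linter.unusedSectionVars false

namespace CfsgLib.Block.PrimeTI

open Cfsg CfsgLib CfsgLib.Block BrauerReynolds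
open scoped ComplexConjugate

universe u

variable {G : Type u} [Group G] [Fintype G] {p : ℕ} [Fact p.Prime] {P : Sylow p G} {E : Subgroup G}
  {χ₀ : IrrCharacter G} {s : G}

/-- An element of the normalizer of `P` is an element of `E` times one of `P`. -/
theorem Setting.exists_mul (S : Setting p P E χ₀) {g : G}
    (hg : g ∈ Subgroup.normalizer ((P : Subgroup G) : Set G)) :
    ∃ a ∈ E, ∃ u ∈ (P : Subgroup G), g = a * u := by
  classical
  let f : E × (P : Subgroup G) → Subgroup.normalizer ((P : Subgroup G) : Set G) := fun x =>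
    ⟨(x.1 : G) * x.2, mul_mem (S.leN x.1.2) (Subgroup.le_normalizer x.2.2)⟩
  have hf : Function.Injective f := by
    intro x y h
    have h' : (x.1 : G) * x.2 = (y.1 : G) * y.2 := congrArg Subtype.val h
    have e1 : (y.1 : G)⁻¹ * x.1 = (y.2 : G) * (x.2 : G)⁻¹ := by
      rw [eq_mul_inv_iff_mul_eq, mul_assoc, h', inv_mul_cancel_left]
    have h1 : (y.1 : G)⁻¹ * x.1 = 1 := S.disj _ (mul_mem (inv_mem y.1.2) x.1.2)
      (e1 ▸ mul_mem y.2.2 (inv_mem x.2.2))
    have ha : x.1 = y.1 := Subtype.ext (inv_mul_eq_one.1 h1).symm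
    exact Prod.ext ha (Subtype.ext (mul_left_cancel (by rw [ha] at h'; exact h')))
  have hb := (Nat.bijective_iff_injective_and_card f).2 ⟨hf, by
    rw [Nat.card_prod, S.cardN, show Nat.card (P : Subgroup G) = p from S.cardP, mul_comm]⟩
  obtain ⟨⟨a, u⟩, hau⟩ := hb.2 ⟨g, hg⟩
  exact ⟨a, a.2, u, u.2, (congrArg Subtype.val hau).symm⟩

/-- A simple group with a nontrivial character of degree `e`. -/
theorem psl_of_degree (S : Setting p P E χ₀) {η : IrrCharacter G}
    (hd : charDegree (η : G → ℂ) = Nat.card E) :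
    Nonempty (G ≃* Matrix.ProjectiveSpecialLinearGroup (Fin 2) (ZMod p)) := by
  classical
  have hp := (Fact.out : p.Prime)
  haveI := S.simple
  have he2 := S.two_le
  have hfaith : ∀ g, (η : G → ℂ) g = (η : G → ℂ) 1 → g = 1 := fun g =>
    BrauerTuan.eq_one_of_apply_eq_degree η.2 (by omega)
  have hP : Nat.card (P : Subgroup G) = p := S.cardP
  have hdiv : p ∣ Nat.card G := hP ▸ Subgroup.card_subgroup_dvd_card _
  have hsq : ¬ p ^ 2 ∣ Nat.card G := fun h => by
    have h1 := P.card_eq_multiplicity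
    rw [hP] at h1
    have h2 := (hp.pow_dvd_iff_le_factorization Nat.card_pos.ne').1 h
    have h3 : p ^ 1 = p ^ (Nat.card G).factorization p := by rw [pow_one]; exact h1
    have := Nat.pow_right_injective hp.two_le h3
    omega
  have hnn : ∀ H : Subgroup G, H.Normal → Nat.card H ≠ p := by
    intro H hH hc
    rcases IsSimpleGroup.eq_bot_or_eq_top_of_normal H hH with rfl | rfl
    · rw [Subgroup.card_bot] at hc; exact hp.ne_one hc.symm
    · rw [Subgroup.card_top] at hc
      have h1 := Subgroup.card_subgroup_dvd_card (Subgroup.normalizer ((P : Subgroup G) : Set G))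
      rw [S.cardN, hc] at h1
      have := Nat.le_of_dvd hp.pos h1
      have : p * 2 ≤ p * Nat.card E := Nat.mul_le_mul_left _ he2
      have := hp.two_le
      omega
  obtain ⟨x, hx⟩ := exists_prime_orderOf_dvd_card' p hdiv
  have hlt : p < 2 * Nat.card E + 3 := by
    by_contra hle
    push Not at hle
    exact hnn _ (exists_normal_order_of_small_degree hx hsq (Char.irr_isCharacter η.2)
      (by rw [hd]; omega) hfaith) (by rw [Nat.card_zpowers, hx])
  have hodd : p % 2 = 1 := hp.eq_two_or_odd.resolve_left fun h => by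
    have := Nat.le_of_dvd (by omega) S.even_t
    omega
  have hle := Nat.le_of_dvd (by have := hp.two_le; omega) S.even_t
  have hdeg : 2 * charDegree (η : G → ℂ) + 1 = p := by rw [hd]; omega
  obtain ⟨e⟩ := SmallBlock.quotient_center_psl hp hdiv hsq hnn (Char.irr_isCharacter η.2) hfaith hdeg
  have hZ : Subgroup.center G = ⊥ := by
    refine ((IsSimpleGroup.eq_bot_or_eq_top_of_normal (Subgroup.center G) inferInstance)).resolve_right
      fun h => S.not_isMulCommutative ⟨⟨fun a b => ?_⟩⟩
    exact Subgroup.mem_center_iff.1 (h ▸ Subgroup.mem_top b) a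
  exact ⟨(QuotientGroup.quotientBot.symm.trans (QuotientGroup.quotientMulEquivOfEq hZ.symm)).trans e⟩

variable [IsMulCommutative E]

/-- The odd case. -/
theorem psl_of_odd (S : Setting p P E χ₀) (hs : Outer E s) (hodd : Odd (Nat.card E)) :
    Nonempty (G ≃* Matrix.ProjectiveSpecialLinearGroup (Fin 2) (ZMod p)) := by
  classical
  haveI := Fintype.ofFinite E
  haveI := Fintype.ofFinite (IrrCharacter G)
  haveI := Fintype.ofFinite (P : Subgroup G)
  haveI : Finite (E →* ℂˣ) := inferInstance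
  haveI := Fintype.ofFinite (E →* ℂˣ)
  have hp := (Fact.out : p.Prime)
  have hp2 := hp.two_le
  obtain ⟨M, hM⟩ := BlockB.exists_isPModular (p := p) hp
  haveI := isPrime_of_pmodular hM
  haveI := charP_kres hM (M := M)
  have hP : Nat.card (P : Subgroup G) = p := S.cardP
  have hPc : Fintype.card (P : Subgroup G) = p := by rw [← Nat.card_eq_fintype_card]; exact hP
  set e := Nat.card E with he
  have he3 : 3 ≤ e := by
    have := S.two_le
    obtain ⟨k, hk⟩ := hodd
    omega
  have hle := Nat.le_of_dvd (by omega) S.even_t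
  set H := Hset E χ₀ with hH
  set m := H.card with hm
  have h2m : 2 * m + 1 = e := two_mul_card_Hset S hs hodd
  -- the kernel
  choose θz hθz using Theta_int S hs hodd
  have hcol : ∀ g, (p : ℤ) ∣ ∑ u : (P : Subgroup G), θz (g * (u : G)) := by
    intro g
    set Z := ∑ u : (P : Subgroup G), θz (g * (u : G)) with hZ
    have hcast : (Z : ℂ) = (p : ℂ) + ∑ η ∈ H, ∑ u : (P : Subgroup G), (η : G → ℂ) (g * (u : G)) := by
      rw [hZ, Int.cast_sum, Finset.sum_congr rfl fun (u : (P : Subgroup G)) _ => (hθz (g * (u : G))).symm]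
      simp only [Theta, Finset.sum_add_distrib, Finset.sum_const, Finset.card_univ, hPc, nsmul_eq_mul,
        mul_one]
      rw [Finset.sum_comm]
    have hmem : MemLocalIdeal M (Z : ℂ) := by
      rw [hcast]
      refine memLocalIdeal_add ((memLocalIdeal_natCast_iff hM p).2 dvd_rfl)
        (memLocalIdeal_sum _ _ fun η hη => ?_)
      obtain ⟨l, -, -, hd, -⟩ := Hset_shape S hs hodd hη
      exact coset_sum_mem hM (Char.irr_isCharacter η.2) (P : Subgroup G) E hP S.leN S.disj hodd
        S.not_dvd_card hd.le (Hset_real S hs hodd hη) (Hset_sum_normalizer S hs hodd hη) g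
    rw [← CharP.intCast_eq_zero_iff (kres M) p]
    have h := (redC_eq_zero_iff (memLocalRing_intCast Z)).2 hmem
    rw [show (Z : ℂ) = ((Z : lring M) : ℂ) by simp, redC_coe, map_intCast] at h
    exact h
  choose K hK using hcol
  have hsum : ∀ g, ∑ u : (P : Subgroup G), Theta E χ₀ (g * (u : G)) = (p : ℂ) * (K g : ℂ) := fun g => by
    rw [Finset.sum_congr rfl fun (u : (P : Subgroup G)) _ => hθz (g * (u : G)), ← Int.cast_sum, hK g]
    push_cast
    ring
  have hp0 : (p : ℂ) ≠ 0 := Nat.cast_ne_zero.2 hp.ne_zero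
  have hKP : ∀ g ∈ (P : Subgroup G), K g = (e : ℤ) := by
    intro g hg
    have h := hsum g
    rw [show ∑ u : (P : Subgroup G), Theta E χ₀ (g * (u : G)) = ∑ u : (P : Subgroup G), Theta E χ₀ u from
      Fintype.sum_equiv (Equiv.mulLeft ⟨g, hg⟩) _ _ fun u => by simp,
      ← Finset.add_sum_erase _ _ (Finset.mem_univ (1 : (P : Subgroup G))),
      Finset.sum_congr rfl fun u hu => Theta_P S hs hodd u.2 fun e => (Finset.mem_erase.1 hu).1 (Subtype.ext e),
      OneMemClass.coe_one, Theta, Finset.sum_congr rfl fun η hη => Hset_deg S hs hodd hη, Finset.sum_const,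
      Finset.sum_const, Finset.card_erase_of_mem (Finset.mem_univ _), Finset.card_univ, hPc, nsmul_eq_mul,
      nsmul_eq_mul, Nat.cast_sub hp.one_le] at h
    have h' : (p : ℂ) * (K g : ℂ) = (p : ℂ) * ((e : ℤ) : ℂ) := by
      rw [← h, ← h2m]; push_cast; ring
    exact_mod_cast mul_left_cancel₀ hp0 h'
  have hKN : ∀ g ∈ Subgroup.normalizer ((P : Subgroup G) : Set G), g ∉ (P : Subgroup G) → K g = 0 := by
    intro g hg hgP
    obtain ⟨a, ha, v, hv, rfl⟩ := S.exists_mul hg
    have ha1 : (⟨a, ha⟩ : E) ≠ 1 := fun h => hgP (by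
      rw [show a = 1 from congrArg Subtype.val h, one_mul]; exact hv)
    have h := hsum (a * v)
    rw [Finset.sum_eq_zero] at h
    · exact_mod_cast (mul_eq_zero.1 h.symm).resolve_left hp0
    intro u _
    obtain ⟨c, -, hc⟩ := exists_conj_eq_mul S.cardP S.cen (S.leN ha)
      (fun h => ha1 (Subtype.ext (S.disj _ ha h))) (mul_mem hv u.2)
    rw [mul_assoc, ← hc, Theta_isClassFunction a c, Theta_E S hs hodd ha1]
  set T : Finset (IrrCharacter G) := insert one' H with hT
  have h1H : one' ∉ H := fun h => (mem_Hset.1 h).1 rfl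
  -- characters outside
  have hneg : ∀ χ, χ ∉ T → ∃ k : ℕ,
      ∑ u ∈ (Finset.univ : Finset (P : Subgroup G)).erase 1, (χ : G → ℂ) u = -(k : ℂ) := by
    intro χ hχ
    have h0 : classInner (Theta E χ₀) (χ : G → ℂ) = 0 := by
      rw [show Theta E χ₀ = ((one' : IrrCharacter G) : G → ℂ) + ∑ η ∈ H, (η : G → ℂ) by
          funext g; rw [Pi.add_apply, Finset.sum_apply, one'_apply]; rfl,
        Char.classInner_add_left, Char.classInner_sum_left, Char.irr_classInner (one' : IrrCharacter G).2 χ.2,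
        if_neg fun h => hχ (Finset.mem_insert.2 (Or.inl (Subtype.ext h).symm)), Finset.sum_eq_zero, add_zero]
      intro η hη
      rw [Char.irr_classInner η.2 χ.2, if_neg fun h => hχ (Finset.mem_insert.2 (Or.inr ((Subtype.ext h : η = χ) ▸ hη)))]
    obtain ⟨r, hr, hrd⟩ := exists_mult_le hM (P : Subgroup G) hP Theta_isClassFunction K hsum
      S.not_dvd_card hKP hKN h0
    refine ⟨charDegree (χ : G → ℂ) - p * r, ?_⟩
    rw [Finset.sum_erase_eq_sub (Finset.mem_univ _), hr, OneMemClass.coe_one, ← BlockB.irr_degree_cast χ,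
      Nat.cast_sub hrd]
    ring
  have hcerase : ((Finset.univ : Finset (P : Subgroup G)).erase 1).card = p - 1 := by
    rw [Finset.card_erase_of_mem (Finset.mem_univ _), Finset.card_univ, hPc]
  -- rows
  obtain ⟨e', t, d₀, σ, CF, YF, ε, D⟩ := BrauerTuan.exists_rowData S.perf hM P hP
  have hee : e' = e := by
    have h := D.e_eq
    rw [S.cen] at h
    have h2 := ((P : Subgroup G).subgroupOf (Subgroup.normalizer ((P : Subgroup G) : Set G))).card_mul_index
    rw [Nat.card_congr (Subgroup.subgroupOfEquivOfLe Subgroup.le_normalizer).toEquiv, hP, S.cardN] at h2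
    rw [← h]
    exact Nat.eq_of_mul_eq_mul_left hp.pos h2
  subst hee
  have hte := D.hte
  have ht2 : 2 ≤ t := by
    by_contra hlt
    have : t = 1 := by have := D.t_pos; omega
    rw [this, one_mul] at hte
    omega
  obtain ⟨hCc, hYc, hσ, -, hdisj, hcover, hYd, hmod, hYcol, hrel⟩ := D.exc ht2
  obtain ⟨u₀, hu₀, hu₀1⟩ : ∃ y ∈ (P : Subgroup G), y ≠ 1 := by
    refine Subgroup.bot_or_exists_ne_one _ |>.resolve_left fun h => ?_
    rw [h, Subgroup.card_bot] at hP
    exact hp.ne_one hP.symm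
  have hHCF : ∀ η ∈ H, η ∈ CF ∧ ε η = 1 := by
    intro η hη
    have hB : η ∈ principalBlock M G := by
      by_contra hB
      have h := apply_eq_zero_of_not_principal S.cardP S.cen hM η hB hu₀ hu₀1
      rw [Hset_valP S hs hodd hη hu₀ hu₀1] at h
      exact one_ne_zero h
    rcases hcover η hB with h | h
    · refine ⟨h, ?_⟩
      have h2 := D.CF_val η h u₀ hu₀ hu₀1
      rw [Hset_valP S hs hodd hη hu₀ hu₀1] at h2
      exact_mod_cast h2.symm
    · exfalso
      obtain ⟨l, -, -, hd, -⟩ := Hset_shape S hs hodd hη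
      have h3 := hYd η h
      rw [hd] at h3
      rw [← h3] at hmod
      have h4 : (p : ℤ) ∣ (e : ℤ) * σ - 1 := by
        obtain ⟨k, hk⟩ := hmod
        refine ⟨k + 1, ?_⟩
        push_cast at hk
        linear_combination hk
      rcases hσ with rfl | rfl
      · have h5 := Int.natAbs_dvd_natAbs.2 h4
        rw [Int.natAbs_natCast] at h5
        have := Nat.le_of_dvd (by omega) h5
        omega
      · have h5 := Int.natAbs_dvd_natAbs.2 h4
        rw [Int.natAbs_natCast] at h5
        have := Nat.le_of_dvd (by omega) h5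
        omega
  have hTsub : T ⊆ CF := fun χ hχ => by
    rcases Finset.mem_insert.1 hχ with rfl | h
    · exact D.one_mem
    · exact (hHCF χ h).1
  have hεT : ∀ χ ∈ T, ε χ = 1 := fun χ hχ => by
    rcases Finset.mem_insert.1 hχ with rfl | h
    · exact D.eps_one
    · exact (hHCF χ h).2
  have hεother : ∀ χ ∈ CF \ T, ε χ = -1 := by
    intro χ hχ
    obtain ⟨hC, hnT⟩ := Finset.mem_sdiff.1 hχ
    refine (D.eps_pm χ hC).resolve_left fun h1 => ?_
    obtain ⟨k, hk⟩ := hneg χ hnT
    have hcu : ∀ u : (P : Subgroup G), u ∈ (Finset.univ : Finset (P : Subgroup G)).erase 1 →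
        (χ : G → ℂ) (u : G) = ((ε χ : ℤ) : ℂ) := fun u hu =>
      D.CF_val χ hC u u.2 fun e => (Finset.mem_erase.1 hu).1 (Subtype.ext e)
    rw [Finset.sum_congr rfl hcu, h1, Finset.sum_const, hcerase, nsmul_eq_mul] at hk
    have h2 : (((p - 1 : ℕ) : ℤ) : ℂ) = ((-(k : ℤ) : ℤ) : ℂ) := by push_cast; simpa using hk
    have h3 : ((p - 1 : ℕ) : ℤ) = -(k : ℤ) := by exact_mod_cast h2
    omega
  have hσ1 : σ = 1 := by
    refine hσ.resolve_right fun h1 => ?_
    subst h1
    have hall : ∀ η ∈ YF, ∃ k : ℕ,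
        ∑ u ∈ (Finset.univ : Finset (P : Subgroup G)).erase 1, (η : G → ℂ) u = -(k : ℂ) :=
      fun η hη => hneg η fun h => Finset.disjoint_left.1 hdisj (hTsub h) hη
    choose! k hk using hall
    have h := Finset.sum_congr rfl hk
    have hcu : ∀ u : (P : Subgroup G), u ∈ (Finset.univ : Finset (P : Subgroup G)).erase 1 →
        ∑ η ∈ YF, (η : G → ℂ) (u : G) = ((-(-1) : ℤ) : ℂ) := fun u hu =>
      hYcol u u.2 fun e => (Finset.mem_erase.1 hu).1 (Subtype.ext e)
    rw [Finset.sum_comm, Finset.sum_congr rfl hcu,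
      Finset.sum_const, hcerase, nsmul_eq_mul, Finset.sum_neg_distrib, ← Nat.cast_sum] at h
    have h2 : (((p - 1 : ℕ) : ℤ) : ℂ) = ((-((∑ η ∈ YF, k η : ℕ) : ℤ) : ℤ) : ℂ) := by
      push_cast; simpa using h
    have h3 : ((p - 1 : ℕ) : ℤ) = -((∑ η ∈ YF, k η : ℕ) : ℤ) := by exact_mod_cast h2
    omega
  subst hσ1
  obtain ⟨η₀, hη₀⟩ : YF.Nonempty := Finset.card_pos.1 (by omega)
  have hd₀ : d₀ = e := by
    have h := hrel η₀ hη₀ 1 (by rw [orderOf_one]; exact hp.not_dvd_one)
    have hco : (CF \ T).card = m := by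
      rw [Finset.card_sdiff_of_subset hTsub, hCc, hT, Finset.card_insert_of_notMem h1H, ← hm]
      omega
    have hTdeg : ∑ χ ∈ T, (ε χ : ℤ) * (charDegree (χ : G → ℂ) : ℤ) = 1 + (m : ℤ) * ((p : ℤ) + 1) := by
      rw [hT, Finset.sum_insert h1H, hεT _ (Finset.mem_insert_self _ _),
        Finset.sum_congr rfl fun η hη => by
          obtain ⟨l, -, -, hd, -⟩ := Hset_shape S hs hodd hη
          rw [hεT η (Finset.mem_insert_of_mem hη), hd], Finset.sum_const, ← hm]
      have h1 := BlockB.irr_degree_cast (one' : IrrCharacter G)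
      rw [one'_apply] at h1
      have h1' : charDegree ((one' : IrrCharacter G) : G → ℂ) = 1 := by exact_mod_cast h1
      rw [h1', nsmul_eq_mul]; push_cast; ring
    have hbig : ∀ χ ∈ CF \ T, ((p : ℤ) - 1) ≤ (charDegree (χ : G → ℂ) : ℤ) := by
      intro χ hχ
      have h1 := D.CF_mod χ (Finset.mem_sdiff.1 hχ).1
      rw [hεother χ hχ] at h1
      obtain ⟨k, hk⟩ := h1
      have h2 : 0 < charDegree (χ : G → ℂ) := BlockB.irr_degree_pos χ
      have hk1 : k ≤ -1 := by
        by_contra hk2
        push Not at hk2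
        have h3 : 0 ≤ (p : ℤ) * k := mul_nonneg (by omega) (by omega)
        omega
      have h3 : (p : ℤ) * k ≤ (p : ℤ) * (-1) := mul_le_mul_of_nonneg_left hk1 (by omega)
      omega
    have hrel' : ∑ χ ∈ CF, (ε χ : ℤ) * (charDegree (χ : G → ℂ) : ℤ) = (d₀ : ℤ) := by
      rw [← BlockB.irr_degree_cast η₀, hYd η₀ hη₀, Int.cast_one, one_mul,
        Finset.sum_congr rfl fun χ _ => by rw [← BlockB.irr_degree_cast χ]] at h
      exact_mod_cast h
    rw [← Finset.sum_sdiff hTsub, hTdeg, Finset.sum_congr rfl fun χ hχ => by rw [hεother χ hχ, neg_one_mul],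
      Finset.sum_neg_distrib] at hrel'
    have hsumbig := Finset.card_nsmul_le_sum (CF \ T) (fun χ => (charDegree (χ : G → ℂ) : ℤ)) _ hbig
    rw [hco, nsmul_eq_mul] at hsumbig
    have hpos : 0 < d₀ := by
      rw [← hYd η₀ hη₀]; exact BlockB.irr_degree_pos η₀
    have hle' : (d₀ : ℤ) ≤ (e : ℤ) := by
      rw [← h2m]; push_cast
      nlinarith
    rw [mul_one] at hmod
    have := Int.eq_zero_of_dvd_of_nonneg_of_lt (by omega) (by omega) hmod
    omega
  exact psl_of_degree S (η := η₀) (by rw [hYd η₀ hη₀, hd₀])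

end CfsgLib.Block.PrimeTI
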