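import Cfsg.Agent.Lib.Block.LocalRing
import Mathlib.LinearAlgebra.Matrix.Rank
import Mathlib.LinearAlgebra.Trace

/-!
Ranks of reductions of matrices over the local ring.
-/

set_option autoImplicit false
set_option linter.unusedSectionVars false

namespace CfsgLib.Block.PrimeTI

open Cfsg CfsgLib CfsgLib.Block Matrix Module

/-- Rank factorization. -/
theorem exists_mul_eq_one {K : Type*} [Field K] {n : ℕ} (A : Matrix (Fin n) (Fin n) K) :
    ∃ (r : ℕ) (B : Matrix (Fin r) (Fin n) K) (C : Matrix (Fin n) (Fin r) K),
      A.rank = r ∧ B * A * C = 1 := by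
  set f := Matrix.toLin' A with hf
  have hr : A.rank = finrank K (LinearMap.range f) := by
    rw [Matrix.rank, hf, Matrix.toLin'_apply']
  set r := finrank K (LinearMap.range f)
  let b : Basis (Fin r) K (LinearMap.range f) := Module.finBasis K (LinearMap.range f)
  choose w hw using fun i => (b i).2
  let c : (Fin r → K) →ₗ[K] (Fin n → K) := (Pi.basisFun K (Fin r)).constr K w
  have hker : LinearMap.ker (f.comp c) = ⊥ := by
    rw [LinearMap.ker_eq_bot]
    have h : f.comp c = (LinearMap.range f).subtype.comp b.equivFun.symm.toLinearMap := by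
      refine (Pi.basisFun K (Fin r)).ext fun i => ?_
      simp [c, hw]
    rw [h]
    exact (LinearMap.range f).injective_subtype.comp b.equivFun.symm.injective
  obtain ⟨g, hg⟩ := LinearMap.exists_leftInverse_of_injective _ hker
  refine ⟨r, LinearMap.toMatrix' g, LinearMap.toMatrix' c, hr, ?_⟩
  rw [← LinearMap.toMatrix'_toLin' A, ← hf, ← LinearMap.toMatrix'_comp, ← LinearMap.toMatrix'_comp,
    LinearMap.comp_assoc, hg, LinearMap.toMatrix'_id]

theorem rank_add_le' {K : Type*} [Field K] {n : ℕ} (A B : Matrix (Fin n) (Fin n) K) :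
    (A + B).rank ≤ A.rank + B.rank := by
  simp only [Matrix.rank]
  rw [Matrix.mulVecLin_add]
  refine (Submodule.finrank_mono ?_).trans (Submodule.finrank_add_le_finrank_add_finrank _ _)
  rintro x ⟨v, rfl⟩
  exact Submodule.add_mem_sup (LinearMap.mem_range_self _ v) (LinearMap.mem_range_self _ v)

/-- The trace of an idempotent matrix in characteristic zero is its rank. -/
theorem trace_idem {K : Type*} [Field K] {n : ℕ} {A : Matrix (Fin n) (Fin n) K} (h : A * A = A) :
    A.trace = (A.rank : K) := by
  set f := Matrix.toLin' A with hf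
  have hp : LinearMap.IsProj (LinearMap.range f) f := by
    refine ⟨fun x => LinearMap.mem_range_self f x, fun x hx => ?_⟩
    obtain ⟨y, rfl⟩ := hx
    rw [hf, ← LinearMap.comp_apply, ← Matrix.toLin'_mul, h]
  rw [← Matrix.trace_toLin'_eq, ← hf, hp.trace, Matrix.rank, hf, Matrix.toLin'_apply']

variable {M : Ideal AlgInt} [M.IsPrime]

/-- The rank does not grow under reduction. -/
theorem rank_red_le {n : ℕ} (A : Matrix (Fin n) (Fin n) (lring M)) :
    (A.map (red M)).rank ≤ (A.map (lring M).subtype).rank := by
  classical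
  haveI : (lideal M).IsMaximal := inferInstance
  letI := Ideal.Quotient.field (lideal M)
  obtain ⟨r, B, C, hr, hBC⟩ := exists_mul_eq_one (A.map (red M))
  choose sB hsB using fun i j => red_surjective (M := M) (B i j)
  choose sC hsC using fun i j => red_surjective (M := M) (C i j)
  set B' : Matrix _ _ (lring M) := Matrix.of sB
  set C' : Matrix _ _ (lring M) := Matrix.of sC
  have hB' : B'.map (red M) = B := by ext i j; exact hsB i j
  have hC' : C'.map (red M) = C := by ext i j; exact hsC i j
  have hdet : IsUnit (B' * A * C').det := by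
    rw [isUnit_lring_iff]
    intro hmem
    have h1 := (red M).map_det (B' * A * C')
    rw [RingHom.mapMatrix_apply, Matrix.map_mul, Matrix.map_mul, hB', hC', hBC, Matrix.det_one,
      Ideal.Quotient.eq_zero_iff_mem.2 hmem] at h1
    exact zero_ne_one h1
  have h2 : IsUnit ((B'.map (lring M).subtype) * (A.map (lring M).subtype) * (C'.map (lring M).subtype)) := by
    rw [← Matrix.map_mul, ← Matrix.map_mul, Matrix.isUnit_iff_isUnit_det,
      ← RingHom.mapMatrix_apply, ← RingHom.map_det]
    exact hdet.map _
  have h3 := Matrix.rank_of_isUnit _ h2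
  rw [Fintype.card_fin] at h3
  rw [hr, ← h3]
  exact (Matrix.rank_mul_le_left _ _).trans (Matrix.rank_mul_le_right _ _)

/-- The reduction of an idempotent has the trace as its rank. -/
theorem rank_red_idem {n : ℕ} {A : Matrix (Fin n) (Fin n) (lring M)} (h : A * A = A) :
    (((A.map (red M)).rank : ℕ) : ℂ) = (A.map (lring M).subtype).trace := by
  classical
  haveI : (lideal M).IsMaximal := inferInstance
  letI := Ideal.Quotient.field (lideal M)
  have h' : (1 - A) * (1 - A) = 1 - A := by
    rw [Matrix.mul_sub, Matrix.mul_one, Matrix.sub_mul, Matrix.one_mul, h, sub_self, sub_zero]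
  have hC : ∀ {A : Matrix (Fin n) (Fin n) (lring M)}, A * A = A →
      (A.map (lring M).subtype).trace = ((A.map (lring M).subtype).rank : ℂ) := fun hA =>
    trace_idem (by rw [← Matrix.map_mul, hA])
  have hsum : (A.map (lring M).subtype).rank + ((1 - A).map (lring M).subtype).rank = n := by
    have h1 : ((A + (1 - A)).map (lring M).subtype).trace = (n : ℂ) := by simp
    rw [Matrix.map_add _ (map_add _), Matrix.trace_add, hC h, hC h'] at h1
    exact_mod_cast h1
  have hk : n ≤ (A.map (red M)).rank + ((1 - A).map (red M)).rank := by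
    refine le_of_eq_of_le ?_ (rank_add_le' _ _)
    rw [← Matrix.map_add _ (map_add _), add_sub_cancel, Matrix.map_one _ (map_zero _) (map_one _),
      Matrix.rank_one, Fintype.card_fin]
  have h1 := rank_red_le A
  have h2 := rank_red_le (1 - A)
  rw [hC h, Nat.cast_inj]
  omega

/-- A nilpotent matrix: the last nonzero power has small rank. -/
theorem mul_rank_pow_le {K : Type*} [Field K] {n p : ℕ} (N : Matrix (Fin n) (Fin n) K)
    (hN : N ^ p = 0) : p * (N ^ (p - 1)).rank ≤ n := by
  classical
  set f := Matrix.toLinAlgEquiv' N with hf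
  have hfp : f ^ p = 0 := by rw [hf, ← map_pow, hN, map_zero]
  obtain ⟨W, hW⟩ := Submodule.exists_isCompl (LinearMap.ker (f ^ (p - 1)))
  have hWr : finrank K W = (N ^ (p - 1)).rank := by
    rw [← (Submodule.quotientEquivOfIsCompl _ _ hW).finrank_eq,
      (f ^ (p - 1)).quotKerEquivRange.finrank_eq, hf, ← map_pow]
    rfl
  let Φ : (Fin p → W) →ₗ[K] (Fin n → K) :=
    ∑ j : Fin p, ((f ^ (j : ℕ)).comp W.subtype).comp (LinearMap.proj j)
  have hΦ : Function.Injective Φ := by
    rw [injective_iff_map_eq_zero]
    intro x hx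
    suffices hall : ∀ m : ℕ, ∀ j : Fin p, (j : ℕ) < m → x j = 0 from
      funext fun j => hall ((j : ℕ) + 1) j (Nat.lt_succ_self _)
    intro m
    induction m with
    | zero => exact fun j hj => absurd hj (Nat.not_lt_zero _)
    | succ m ih =>
      intro j hj
      rcases Nat.lt_succ_iff_lt_or_eq.1 hj with hlt | heq
      · exact ih j hlt
      have h := congrArg (fun v => (f ^ (p - 1 - (j : ℕ))) v) hx
      simp only [Φ, LinearMap.sum_apply, map_sum, LinearMap.comp_apply, map_zero, LinearMap.proj_apply,
        Submodule.subtype_apply, ← Module.End.mul_apply, ← pow_add] at h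
      rw [Finset.sum_eq_single j] at h
      · rw [show p - 1 - (j : ℕ) + (j : ℕ) = p - 1 by omega] at h
        exact Subtype.ext (Submodule.mem_bot K |>.1 (hW.inf_eq_bot ▸
          (⟨LinearMap.mem_ker.2 h, (x j).2⟩ : ((x j : Fin n → K)) ∈ _ ⊓ W)))
      · intro i _ hij
        rcases lt_or_gt_of_ne (fun e => hij (Fin.ext e)) with h' | h'
        · rw [ih i (by omega)]; simp
        · rw [show p - 1 - (j : ℕ) + (i : ℕ) = p + ((i : ℕ) - (j : ℕ) - 1) by omega, pow_add, hfp, zero_mul]
          rfl
      · simp
  have := LinearMap.finrank_le_finrank_of_injective hΦ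
  rwa [Module.finrank_pi_fintype, Finset.sum_const, Finset.card_univ, Fintype.card_fin, smul_eq_mul,
    hWr, Module.finrank_fin_fun] at this

/-- In characteristic `p` the geometric sum of length `p` is a power. -/
theorem geom_sum_char {K : Type*} [Field K] {p : ℕ} [Fact p.Prime] [CharP K p] {R : Type*} [Ring R]
    [Algebra K R] (x : R) : ∑ i ∈ Finset.range p, x ^ i = (x - 1) ^ (p - 1) := by
  have h : (∑ i ∈ Finset.range p, (Polynomial.X : Polynomial K) ^ i) = (Polynomial.X - 1) ^ (p - 1) := by
    refine mul_right_cancel₀ (b := Polynomial.X - 1) ?_ ?_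
    · rw [← Polynomial.C_1]; exact Polynomial.X_sub_C_ne_zero 1
    · rw [geom_sum_mul, ← pow_succ, Nat.sub_add_cancel (Fact.out : p.Prime).one_le, sub_pow_char,
        one_pow]
  have h2 := congrArg (Polynomial.aeval x) h
  simpa only [map_sum, map_pow, map_sub, map_one, Polynomial.aeval_X] using h2

theorem sub_one_pow_char {K : Type*} [Field K] {p : ℕ} [Fact p.Prime] [CharP K p] {R : Type*} [Ring R]
    [Algebra K R] {x : R} (hx : x ^ p = 1) : (x - 1) ^ p = 0 := by
  have h : ((Polynomial.X : Polynomial K) - 1) ^ p = Polynomial.X ^ p - 1 := by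
    rw [sub_pow_char, one_pow]
  have h2 := congrArg (Polynomial.aeval x) h
  simpa only [map_pow, map_sub, map_one, Polynomial.aeval_X, hx, sub_self] using h2

end CfsgLib.Block.PrimeTI
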