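import Cfsg.Agent.Lib.Block.PrimeTI.Dual
import Cfsg.Agent.Lib.Block.BRPoints
import Cfsg.Agent.Lib.BlockB.DefectZero
import Cfsg.Agent.Lib.Perm.PrimeDegreeSylow
import Cfsg.Agent.Lib.Perm.PermChar
import Cfsg.Agent.Lib.Char.CliffordApps

/-!
Insoluble groups of prime degree `p` with a unique irreducible character of degree `p` and a
trivial-intersection complement in the Sylow normalizer: the basic facts.
-/

set_option autoImplicit false
set_option linter.unusedSectionVars false

namespace CfsgLib.Block.PrimeTI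

open Cfsg CfsgLib CfsgLib.Block MulAction BrauerReynolds
open scoped Pointwise commutatorElement

universe u w

/-- The abstract situation. -/
structure Setting {G : Type u} [Group G] [Finite G] (p : ℕ) (P : Sylow p G) (E : Subgroup G)
    (χ₀ : IrrCharacter G) : Prop where
  perf : commutator G = ⊤
  simple : IsSimpleGroup G
  cardP : Nat.card P = p
  cen : Subgroup.centralizer ((P : Subgroup G) : Set G) = (P : Subgroup G)
  cycE : IsCyclic E
  leN : E ≤ Subgroup.normalizer ((P : Subgroup G) : Set G)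
  disj : ∀ a ∈ E, a ∈ (P : Subgroup G) → a = 1
  cardN : Nat.card (Subgroup.normalizer ((P : Subgroup G) : Set G)) = p * Nat.card E
  two_le : 2 ≤ Nat.card E
  even_t : 2 * Nat.card E ∣ p - 1
  cardNE : Nat.card (Subgroup.normalizer (E : Set G)) = 2 * Nat.card E
  ti : ∀ g : G, g ∉ Subgroup.normalizer (E : Set G) → ∀ a ∈ E, g * a * g⁻¹ ∈ E → a = 1
  deg : (χ₀ : G → ℂ) 1 = p
  uniq : ∀ χ : IrrCharacter G, (χ : G → ℂ) 1 = p → χ = χ₀
  valE : ∀ a ∈ E, a ≠ 1 → (χ₀ : G → ℂ) a = 1
  valP : ∀ u ∈ (P : Subgroup G), u ≠ 1 → (χ₀ : G → ℂ) u = 0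

section Front

variable {G : Type u} [Group G] [Finite G] {p : ℕ} [Fact p.Prime] {P : Sylow p G}

/-- A character of degree `p` vanishing on `P ∖ 1` is `t` regular parts plus one linear part on a
complement. -/
theorem exists_linear_part (hP : Nat.card P = p)
    (hC : Subgroup.centralizer ((P : Subgroup G) : Set G) = (P : Subgroup G)) (E : Subgroup G)
    [Fintype (E →* ℂˣ)] [IsMulCommutative E]
    (hEN : E ≤ Subgroup.normalizer ((P : Subgroup G) : Set G))
    (hdisj : ∀ a ∈ E, a ∈ (P : Subgroup G) → a = 1)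
    (hN : Nat.card (Subgroup.normalizer ((P : Subgroup G) : Set G)) = p * Nat.card E)
    {t : ℕ} (ht : t * Nat.card E + 1 = p) {χ : G → ℂ} (hχ : IsCharacter G χ) (hd : χ 1 = p)
    (hv : ∀ u ∈ (P : Subgroup G), u ≠ 1 → χ u = 0) :
    ∃ μ : E →* ℂˣ, ∀ a : E,
      χ (a : G) = (t : ℂ) * ∑ l : E →* ℂˣ, (l a : ℂ) + (μ a : ℂ) := by
  classical
  set N := Subgroup.normalizer ((P : Subgroup G) : Set G) with hNdef
  have hp := (Fact.out : p.Prime)
  have := Fintype.ofFinite G
  have := Fintype.ofFinite N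
  have := Fintype.ofFinite E
  let P' : Subgroup N := (P : Subgroup G).subgroupOf N
  let E' : Subgroup N := E.subgroupOf N
  haveI : P'.Normal := Subgroup.normal_in_normalizer
  have hcP : Nat.card P' = p :=
    (Nat.card_congr (Subgroup.subgroupOfEquivOfLe Subgroup.le_normalizer).toEquiv).trans hP
  have hcE : Nat.card E' = Nat.card E :=
    Nat.card_congr (Subgroup.subgroupOfEquivOfLe hEN).toEquiv
  have hdis : Disjoint E' P' := by
    rw [Subgroup.disjoint_def]
    intro x hx hx'
    exact Subtype.ext (hdisj _ hx hx')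
  have hcompl : Subgroup.IsComplement' E' P' :=
    Subgroup.isComplement'_of_card_mul_and_disjoint (by rw [hcP, hcE, hN, mul_comm]) hdis
  let π : N →* E :=
    ((Subgroup.subgroupOfEquivOfLe hEN).toMonoidHom.comp
      (hcompl.QuotientMulEquiv.toMonoidHom)).comp (QuotientGroup.mk' P')
  have hπP : ∀ u : N, (u : G) ∈ (P : Subgroup G) → π u = 1 := fun u hu => by
    show _ = (1 : E)
    have : (QuotientGroup.mk' P') u = 1 := (QuotientGroup.eq_one_iff u).2 hu
    simp only [π, MonoidHom.comp_apply, this, map_one]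
  have hπE : ∀ a : E, π ⟨a, hEN a.2⟩ = a := fun a => by
    have h1 : hcompl.QuotientMulEquiv (QuotientGroup.mk' P' ⟨a, hEN a.2⟩) =
        (⟨⟨a, hEN a.2⟩, a.2⟩ : E') := by
      rw [← MulEquiv.eq_symm_apply]
      rfl
    simp only [π, MonoidHom.comp_apply, MulEquiv.coe_toMonoidHom, h1]
    rfl
  -- values on the coset of an element of `E`
  have hval : ∀ (a : E) (u : N), (u : G) ∈ (P : Subgroup G) →
      χ ((a : G) * u) = if (u : G) = 1 ∨ a ≠ 1 then χ (a : G) else 0 := by
    intro a u hu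
    by_cases ha : a = 1
    · subst ha
      by_cases hu1 : (u : G) = 1
      · simp [hu1]
      · simp [hu1, hv _ hu hu1]
    · rw [if_pos (Or.inr ha)]
      obtain ⟨c, -, hc⟩ := exists_conj_eq_mul hP hC (hEN a.2)
        (fun h => ha (Subtype.ext (hdisj _ a.2 h))) hu
      rw [← hc]
      exact Char.isCharacter_isClassFunction hχ (a : G) c
  -- multiplicities
  let c : (E →* ℂˣ) → ℂ := fun l => (Nat.card E : ℂ)⁻¹ * ∑ b : E, χ (b : G) * (l b⁻¹ : ℂ)
  have he0 : (Nat.card E : ℂ) ≠ 0 := Nat.cast_ne_zero.2 Nat.card_pos.ne'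
  have hp0 : (p : ℂ) ≠ 0 := Nat.cast_ne_zero.2 hp.ne_zero
  have hsum : ∀ l : E →* ℂˣ, ∃ k : ℕ, c l - t = (k : ℂ) := by
    intro l
    obtain ⟨k, hk⟩ := Char.classInner_isCharacter_nat (φ := fun x : N => χ x)
      (Char.isCharacter_restrict hχ N) (Char.irr_isCharacter (Char.isIrrCharacter_linear (l.comp π)))
    refine ⟨k, ?_⟩
    rw [← hk, Char.classInner_def]
    have hreindex : ∑ x : N, χ (x : G) * starRingEnd ℂ (((l.comp π) x : ℂˣ) : ℂ) =
        ∑ a : E, ∑ u : P', χ ((a : G) * ((u : N) : G)) * (l a⁻¹ : ℂ) := by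
      rw [← Fintype.sum_prod_type']
      refine (Fintype.sum_bijective (fun x : E × P' => (⟨x.1, hEN x.1.2⟩ : N) * x.2) ?_ _ _ ?_).symm
      · refine (Fintype.bijective_iff_injective_and_card _).2 ⟨?_, ?_⟩
        · intro x y h
          have h1 := congrArg π h
          rw [map_mul, map_mul, hπE, hπE, hπP _ x.2.2, hπP _ y.2.2, mul_one, mul_one] at h1
          refine Prod.ext h1 (Subtype.ext ?_)
          simp only [h1] at h
          exact mul_left_cancel h
        · rw [Fintype.card_prod, ← Nat.card_eq_fintype_card, ← Nat.card_eq_fintype_card,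
            ← Nat.card_eq_fintype_card, hcP, hN, mul_comm]
      · intro x
        simp only [MonoidHom.comp_apply, map_mul, hπE, hπP _ x.2.2, map_one, mul_one]
        rw [Char.conj_linear_apply, map_inv]
        rfl
    rw [hreindex]
    have hinner : ∀ a : E, ∑ u : P', χ ((a : G) * ((u : N) : G)) * (l a⁻¹ : ℂ) =
        if a = 1 then (p : ℂ) else (p : ℂ) * (χ (a : G) * (l a⁻¹ : ℂ)) := by
      intro a
      rw [Finset.sum_congr rfl fun u _ => by rw [hval a _ u.2]]
      split_ifs with ha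
      · subst ha
        rw [Finset.sum_eq_single (1 : P')]
        · simp [hd]
        · intro u _ hu
          have : ((u : N) : G) ≠ 1 := fun h => hu (Subtype.ext (Subtype.ext h))
          simp [this]
        · simp
      · simp only [ne_eq, ha, not_false_iff, or_true, if_true, Finset.sum_const, Finset.card_univ,
          ← Nat.card_eq_fintype_card, hcP, nsmul_eq_mul]
    rw [Finset.sum_congr rfl fun a _ => hinner a, hN, ← Finset.add_sum_erase _ _ (Finset.mem_univ 1),
      if_pos rfl, Finset.sum_congr rfl fun a ha => if_neg (Finset.mem_erase.1 ha).1, ← Finset.mul_sum]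
    simp only [c]
    rw [← Finset.add_sum_erase _ _ (Finset.mem_univ (1 : E))]
    simp only [OneMemClass.coe_one, hd, inv_one, map_one, Units.val_one, mul_one]
    have htc : (t : ℂ) * (Nat.card E : ℂ) + 1 = (p : ℂ) := by exact_mod_cast ht
    push_cast
    field_simp
    linear_combination -htc
  choose k hk using hsum
  have hexp : ∀ a : E, χ (a : G) =
      (t : ℂ) * ∑ l : E →* ℂˣ, (l a : ℂ) + ∑ l : E →* ℂˣ, (k l : ℂ) * (l a : ℂ) := by
    intro a
    rw [Finset.mul_sum, ← Finset.sum_add_distrib]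
    refine ((expansion (fun b : E => χ (b : G)) a).symm).trans (Finset.sum_congr rfl fun l _ => ?_)
    have := hk l
    simp only [c] at this
    rw [← add_mul, ← this, add_sub_cancel]
  have hone : ∑ l : E →* ℂˣ, k l = 1 := by
    have h := hexp 1
    simp only [OneMemClass.coe_one, hd, map_one, Units.val_one, mul_one, Finset.sum_const,
      Finset.card_univ, card_dual, nsmul_eq_mul] at h
    have h' : p = t * Nat.card E + ∑ l : E →* ℂˣ, k l := by exact_mod_cast h
    omega
  obtain ⟨μ, hμ⟩ : ∃ μ, k μ ≠ 0 := by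
    by_contra hcon
    push Not at hcon
    rw [Finset.sum_eq_zero fun l _ => hcon l] at hone
    exact zero_ne_one hone
  rw [← Finset.add_sum_erase _ _ (Finset.mem_univ μ)] at hone
  have hμ1 : k μ = 1 := by omega
  refine ⟨μ, fun a => ?_⟩
  have hrest : ∀ l : E →* ℂˣ, l ≠ μ → k l = 0 := fun l hl =>
    Finset.sum_eq_zero_iff.1 (show ∑ l ∈ Finset.univ.erase μ, k l = 0 by omega) l
      (Finset.mem_erase.2 ⟨hl, Finset.mem_univ l⟩)
  rw [hexp a]
  congr 1
  rw [Finset.sum_eq_single μ (fun l _ hl => by rw [hrest l hl, Nat.cast_zero, zero_mul])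
    (fun h => absurd (Finset.mem_univ μ) h), hμ1, Nat.cast_one, one_mul]

end Front

variable {α : Type w} [Fintype α] [DecidableEq α] {p : ℕ} [Fact p.Prime]

/-- The hypotheses of the statement give the abstract situation. -/
theorem setting_of_perm (hα : Fintype.card α = p) (G : Subgroup (Equiv.Perm α))
    [IsPretransitive G α] (huniq : ∃! χ : IrrCharacter G, charDegree (χ : G → ℂ) = p)
    (P : Sylow p G) (E : Subgroup G)
    (hPE : (P : Subgroup G) ⊔ E = Subgroup.normalizer ((P : Subgroup G) : Set G))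
    (hPE' : (P : Subgroup G) ⊓ E = ⊥)
    (hNE : Nat.card (Subgroup.normalizer (E : Set G)) = 2 * Nat.card E)
    (hTI : ∀ g : G, g ∉ Subgroup.normalizer (E : Set G) →
      E ⊓ E.map (MulAut.conj g).toMonoidHom = ⊥) :
    ∃ χ₀ : IrrCharacter G, Setting p P E χ₀ := by
  classical
  have hp := (Fact.out : p.Prime)
  have := Fintype.ofFinite G
  haveI : FaithfulSMul G α := ⟨fun {g k} h => Subtype.ext (Equiv.ext h)⟩
  obtain ⟨χ₀, hχ₀d, hχ₀u⟩ := huniq
  have hdeg : (χ₀ : G → ℂ) 1 = (p : ℂ) := by rw [← BlockB.irr_degree_cast χ₀, hχ₀d]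
  have hP : Nat.card P = p := CfsgLib.Perm.sylow_card_eq hα G P
  have hsq : ¬ p * p ∣ Nat.card G := CfsgLib.Perm.sq_not_dvd_card hα G
  set Q := (P : Subgroup G) with hQdef
  set N := Subgroup.normalizer (Q : Set G) with hNdef
  have hQab : IsMulCommutative Q := by
    haveI := isCyclic_of_prime_card (show Nat.card Q = p from hP)
    exact ⟨⟨IsCyclic.commGroup.mul_comm⟩⟩
  -- regular action of `P`
  obtain ⟨σ, e, hσo, hσ⟩ := CfsgLib.Perm.exists_equiv_zmod hα G
  have hQtrans : ∀ a b : α, ∃ u ∈ Q, u • a = b := by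
    intro a b
    obtain ⟨R, hR⟩ := (IsPGroup.of_card (n := 1) (G := Subgroup.zpowers σ)
      (by rw [Nat.card_zpowers, hσo, pow_one])).exists_le_sylow
    obtain ⟨g, hg⟩ := MulAction.exists_smul_eq G R P
    obtain ⟨j, hj⟩ : ∃ j : ℕ, (σ ^ j) • (g⁻¹ • a) = g⁻¹ • b := by
      refine ⟨(e.symm (g⁻¹ • b) - e.symm (g⁻¹ • a)).val, ?_⟩
      have h := CfsgLib.Perm.pow_apply_label e _ hσ (e.symm (g⁻¹ • b) - e.symm (g⁻¹ • a)).val
        (e.symm (g⁻¹ • a))
      rw [e.apply_symm_apply, ZMod.natCast_zmod_val, add_sub_cancel, e.apply_symm_apply] at h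
      exact h
    refine ⟨g * σ ^ j * g⁻¹, ?_, by rw [mul_smul, mul_smul, hj, smul_inv_smul]⟩
    rw [hQdef, ← hg, Sylow.coe_subgroup_smul]
    exact ⟨σ ^ j, Subgroup.pow_mem _ (hR (Subgroup.mem_zpowers σ)) j, rfl⟩
  have hQreg : ∀ u ∈ Q, ∀ a : α, u • a = a → u = 1 := by
    intro u hu a hua
    refine eq_of_smul_eq_smul (α := α) fun b => ?_
    obtain ⟨v, hv, rfl⟩ := hQtrans a b
    have : u * v = v * u := congrArg Subtype.val (mul_comm' (⟨u, hu⟩ : Q) ⟨v, hv⟩)
    rw [← mul_smul, this, mul_smul, hua, one_smul]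
  have hC : Subgroup.centralizer (Q : Set G) = Q := by
    refine le_antisymm (fun c hc => ?_) (fun c hc => Subgroup.mem_centralizer_iff.2 fun d hd =>
      congrArg Subtype.val (mul_comm' (⟨d, hd⟩ : Q) ⟨c, hc⟩))
    obtain ⟨a⟩ : Nonempty α := Fintype.card_pos_iff.1 (by rw [hα]; exact hp.pos)
    obtain ⟨u, hu, hua⟩ := hQtrans a (c • a)
    suffices h : c = u by rw [h]; exact hu
    refine eq_of_smul_eq_smul (α := α) fun b => ?_
    obtain ⟨v, hv, rfl⟩ := hQtrans a b
    have h1 : u * v = v * u := congrArg Subtype.val (mul_comm' (⟨u, hu⟩ : Q) ⟨v, hv⟩)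
    rw [← mul_smul, ← mul_smul, ← Subgroup.mem_centralizer_iff.1 hc v hv, h1, mul_smul, mul_smul, hua]
  have hEN : E ≤ N := le_sup_right.trans hPE.le
  have hdisj : ∀ a ∈ E, a ∈ Q → a = 1 := fun a ha ha' =>
    Subgroup.mem_bot.1 (hPE' ▸ (⟨ha', ha⟩ : a ∈ Q ⊓ E))
  -- `E` is cyclic of order dividing `p - 1`
  haveI hQcyc : IsCyclic Q := isCyclic_of_prime_card hP
  haveI : IsCyclic (MulAut Q) := by
    have : IsCyclic (ZMod (Nat.card Q))ˣ := by
      rw [show Nat.card Q = p from hP]; infer_instance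
    exact isCyclic_of_surjective (IsCyclic.mulAutMulEquiv Q).symm.toMonoidHom
      (IsCyclic.mulAutMulEquiv Q).symm.surjective
  let φ : E →* MulAut Q := Q.normalizerMonoidHom.comp (Subgroup.inclusion hEN)
  have hφ : Function.Injective φ := by
    rw [injective_iff_map_eq_one]
    intro a ha
    have h1 : (Subgroup.inclusion hEN a) ∈ Q.normalizerMonoidHom.ker := ha
    rw [Subgroup.normalizerMonoidHom_ker, Subgroup.mem_subgroupOf, hC] at h1
    exact Subtype.ext (hdisj _ a.2 h1)
  haveI hEcyc : IsCyclic E := isCyclic_of_injective φ hφ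
  haveI : IsMulCommutative E := ⟨⟨IsCyclic.commGroup.mul_comm⟩⟩
  have hedvd : Nat.card E ∣ p - 1 := by
    have h1 := Subgroup.card_dvd_of_injective φ hφ
    rwa [Nat.card_congr (IsCyclic.mulAutMulEquiv Q).toEquiv, show Nat.card Q = p from hP,
      Nat.card_eq_fintype_card (α := (ZMod p)ˣ), ZMod.card_units] at h1
  obtain ⟨t, ht'⟩ := hedvd
  have ht : t * Nat.card E + 1 = p := by rw [mul_comm]; have := hp.two_le; omega
  have hcardN : Nat.card N = p * Nat.card E := by
    haveI : (Q.subgroupOf N).Normal := Subgroup.normal_in_normalizer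
    have hdis : Disjoint (E.subgroupOf N) (Q.subgroupOf N) := by
      rw [Subgroup.disjoint_def]; intro x hx hx'; exact Subtype.ext (hdisj _ hx hx')
    have hsup : E.subgroupOf N ⊔ Q.subgroupOf N = ⊤ := by
      rw [← Subgroup.subgroupOf_sup hEN Subgroup.le_normalizer, sup_comm, hPE, Subgroup.subgroupOf_self]
    have := (Subgroup.isComplement'_of_disjoint_and_mul_eq_univ hdis (by
      rw [← Subgroup.mul_normal, hsup, Subgroup.coe_top])).card_mul
    rwa [Nat.card_congr (Subgroup.subgroupOfEquivOfLe hEN).toEquiv,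
      Nat.card_congr (Subgroup.subgroupOfEquivOfLe Subgroup.le_normalizer).toEquiv,
      show Nat.card Q = p from hP, mul_comm, eq_comm] at this
  -- the degree `p` character vanishes on `P`
  have hvP : ∀ u ∈ Q, u ≠ 1 → (χ₀ : G → ℂ) u = 0 := by
    intro u hu hu1
    have huo : orderOf u = p := by
      have h := orderOf_dvd_natCard (⟨u, hu⟩ : Q)
      rw [Subgroup.orderOf_mk, show Nat.card Q = p from hP] at h
      exact (hp.eq_one_or_self_of_dvd _ h).resolve_left fun h => hu1 (orderOf_eq_one_iff.1 h)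
    refine BlockB.irr_apply_eq_zero_of_defect_zero χ₀ (p := p) ?_ (by rw [huo])
    rw [hχ₀d]
    refine (pow_dvd_pow p ?_).trans (pow_one p).dvd
    by_contra hcon
    push Not at hcon
    exact hsq ((dvd_of_eq (pow_two p).symm).trans
      ((pow_dvd_pow p hcon).trans (Nat.ordProj_dvd _ _)))
  have := Fintype.ofFinite (E →* ℂˣ)
  obtain ⟨μ, hμ⟩ := exists_linear_part hP hC E hEN hdisj hcardN ht (Char.irr_isCharacter χ₀.2) hdeg hvP
  have hvE : ∀ a : E, a ≠ 1 → (χ₀ : G → ℂ) a = (μ a : ℂ) := fun a ha => by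
    rw [hμ a, sum_dual_apply, if_neg ha, mul_zero, zero_add]
  -- perfect
  have hN_ne : N ≠ ⊤ := fun htop => by
    haveI : Q.Normal := Subgroup.normalizer_eq_top_iff.1 htop
    obtain ⟨m, ρ, hρ, hρχ⟩ := χ₀.2
    have h := Char.ito_degree_dvd_index ρ Q fun a ha b hb =>
      congrArg Subtype.val (mul_comm' (⟨a, ha⟩ : Q) ⟨b, hb⟩)
    have h1 : (Module.finrank ℂ (Fin m → ℂ) : ℂ) = (p : ℂ) := by
      rw [← Representation.char_one (ρ := ρ), hρχ, hdeg]
    rw [Nat.cast_inj] at h1
    rw [h1] at h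
    exact hsq (by rw [← Q.card_mul_index, show Nat.card Q = p from hP]; exact mul_dvd_mul_left p h)
  haveI : IsPreprimitive G α := IsPreprimitive.of_prime_card (by rwa [Nat.card_eq_fintype_card, hα])
  obtain ⟨a₀⟩ : Nonempty α := Fintype.card_pos_iff.1 (by rw [hα]; exact hp.pos)
  have hQle : ∀ K : Subgroup G, K.Normal → K ≠ ⊥ → Q ≤ K := by
    intro K hK hne u hu
    haveI := MulAction.IsQuasiPreprimitive.isPretransitive_of_normal (N := K) (X := α) (fun h => hne
      ((Subgroup.eq_bot_iff_forall _).2 fun k hk => Subtype.ext (Equiv.ext fun a =>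
        MulAction.mem_fixedPoints.1 (h ▸ Set.mem_univ a) (⟨k, hk⟩ : K))))
    have hpK : p ∣ Nat.card K := by
      rw [CfsgLib.Perm.natCard_eq_mul_stabilizer (G := K) a₀, Nat.card_eq_fintype_card (α := α), hα]
      exact dvd_mul_right _ _
    have hcop : p.Coprime K.index := (hp.coprime_iff_not_dvd).2 fun h =>
      hsq (by rw [← K.card_mul_index]; exact mul_dvd_mul hpK h)
    have h1 : u ^ p = 1 := by
      rw [← show Nat.card Q = p from hP]
      exact congrArg Subtype.val (pow_card_eq_one' (x := (⟨u, hu⟩ : Q)))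
    obtain ⟨x, y, hxy⟩ : ∃ x y : ℤ, (p : ℤ) * x + (K.index : ℤ) * y = 1 := by
      exact ⟨_, _, ((Nat.gcd_eq_gcd_ab p K.index).symm.trans (by rw [hcop.gcd_eq_one]; rfl))⟩
    have h2 : u = (u ^ K.index) ^ y := by
      conv_lhs => rw [← zpow_one u, ← hxy, zpow_add, zpow_mul, zpow_mul, zpow_natCast, zpow_natCast, h1,
        one_zpow, one_mul]
    rw [h2]
    exact zpow_mem (Subgroup.pow_index_mem (H := K) u) y
  have hperf : commutator G = ⊤ := by
    by_contra hne
    have hK : commutator G ≠ ⊥ := fun h => hN_ne (Subgroup.normalizer_eq_top_iff.2 ⟨fun a ha g => by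
      have hg := Subgroup.commutator_eq_bot_iff_le_centralizer.1
        (h : ⁅(⊤ : Subgroup G), (⊤ : Subgroup G)⁆ = ⊥) (Subgroup.mem_top g)
      rw [← Subgroup.mem_centralizer_iff.1 hg a (Subgroup.mem_top a), mul_inv_cancel_right]
      exact ha⟩)
    haveI : (commutator G).Normal := inferInstance
    have hQK := hQle _ inferInstance hK
    obtain ⟨l, hl⟩ : ∃ l : G →* ℂˣ, l ≠ 1 := by
      by_contra hcon
      push Not at hcon
      have h1 : Nat.card (G →* ℂˣ) = 1 := Nat.card_eq_one_iff_exists.2 ⟨1, hcon⟩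
      rw [Char.natCard_linear] at h1
      exact hne (Subgroup.index_eq_one.1 h1)
    -- the twist fixes the character
    have htw := hχ₀u ⟨_, Char.isIrrCharacter_mul_linear χ₀.2 l⟩ (by
      have hc : (charDegree (fun g => (l g : ℂ) * (χ₀ : G → ℂ) g) : ℂ) = (p : ℂ) := by
        rw [BlockB.charDegree_cast (Char.irr_isCharacter (Char.isIrrCharacter_mul_linear χ₀.2 l)),
          map_one, Units.val_one, one_mul, hdeg]
      exact_mod_cast hc)
    have hfix : ∀ g : G, (l g : ℂ) * (χ₀ : G → ℂ) g = (χ₀ : G → ℂ) g :=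
      fun g => congrFun (congrArg Subtype.val htw) g
    apply hl
    -- `G` is generated by the commutator subgroup and `E`
    have hlQ : ∀ u ∈ commutator G, l u = 1 := fun u hu => Char.linear_eq_one_of_mem_commutator l hu
    have hlE : ∀ a ∈ E, l a = 1 := by
      intro a ha
      rcases eq_or_ne a 1 with rfl | ha1
      · exact map_one l
      · have h := hfix a
        rw [hvE ⟨a, ha⟩ (fun h => ha1 (congrArg Subtype.val h))] at h
        refine Units.ext ?_
        rwa [mul_left_eq_self₀, or_iff_left (Units.ne_zero _)] at h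
    have hsup : N ⊔ commutator G = ⊤ := by
      have h := Sylow.normalizer_sup_eq_top (N := commutator G) (P.subtype hQK)
      rwa [show (P.subtype hQK : Subgroup (commutator G)).map (commutator G).subtype = Q from
        Subgroup.map_subgroupOf_eq_of_le hQK] at h
    have hker : l.ker = ⊤ := by
      rw [eq_top_iff, ← hsup, ← hPE]
      exact sup_le (sup_le (fun u hu => MonoidHom.mem_ker.2 (hlQ u (hQK hu)))
        fun a ha => MonoidHom.mem_ker.2 (hlE a ha)) fun u hu => MonoidHom.mem_ker.2 (hlQ u hu)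
    exact MonoidHom.ext fun g => MonoidHom.mem_ker.1 (hker ▸ Subgroup.mem_top g)
  have hlin : ∀ d : G →* ℂˣ, d = 1 := fun d => MonoidHom.ext fun g =>
    Char.linear_eq_one_of_mem_commutator d (hperf ▸ Subgroup.mem_top g)
  have hsimple : IsSimpleGroup G := by
    haveI : Nontrivial G := Finite.one_lt_card_iff_nontrivial.1 (lt_of_lt_of_le hp.one_lt
      (Nat.le_of_dvd Nat.card_pos (hP ▸ Subgroup.card_subgroup_dvd_card Q)))
    refine ⟨fun K hK => ?_⟩
    by_contra hcon
    push Not at hcon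
    obtain ⟨hK0, hK1⟩ := hcon
    have hQK := hQle K hK hK0
    haveI := hK
    have hsup : N ⊔ K = ⊤ := by
      have h := Sylow.normalizer_sup_eq_top (N := K) (P.subtype hQK)
      rwa [show (P.subtype hQK : Subgroup K).map K.subtype = Q from
        Subgroup.map_subgroupOf_eq_of_le hQK] at h
    have hEK : E ⊔ K = ⊤ := by
      rw [eq_top_iff, ← hsup, ← hPE]
      exact sup_le (sup_le (hQK.trans le_sup_right) le_sup_left) le_sup_right
    -- the quotient is abelian
    have hcomm : commutator G ≤ K := by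
      rw [_root_.commutator_def, Subgroup.commutator_le]
      intro a _ b _
      rw [← QuotientGroup.eq_one_iff (N := K)]
      have hrep : ∀ g : G, ∃ x ∈ E, (QuotientGroup.mk g : G ⧸ K) = QuotientGroup.mk x := fun g => by
        obtain ⟨x, hx, k, hk, rfl⟩ := Subgroup.mem_sup_of_normal_right.1 (hEK ▸ Subgroup.mem_top g)
        exact ⟨x, hx, QuotientGroup.eq.2 (by simpa using K.inv_mem hk)⟩
      obtain ⟨x, hx, ha⟩ := hrep a
      obtain ⟨y, hy, hb⟩ := hrep b
      show ((QuotientGroup.mk' K) ⁅a, b⁆) = 1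
      rw [map_commutatorElement, QuotientGroup.mk'_apply, QuotientGroup.mk'_apply, ha, hb]
      have : x * y = y * x := congrArg Subtype.val (mul_comm' (⟨x, hx⟩ : E) ⟨y, hy⟩)
      rw [commutatorElement_eq_one_iff_mul_comm, ← QuotientGroup.mk_mul, this]
      rfl
    exact hK1 (top_le_iff.1 (hperf ▸ hcomm))
  have he2 : 2 ≤ Nat.card E := by
    by_contra hlt
    have h1 : Nat.card E = 1 := by have := Nat.card_pos (α := E); omega
    have hs := CfsgLib.Perm.isSolvable_of_normalizer_card_eq hα G P (by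
      rw [← hNdef, hcardN, h1, mul_one])
    haveI := hs
    haveI : Nontrivial G := Finite.one_lt_card_iff_nontrivial.1 (lt_of_lt_of_le hp.one_lt
      (Nat.le_of_dvd Nat.card_pos (hP ▸ Subgroup.card_subgroup_dvd_card Q)))
    exact (Group.IsSolvable.commutator_lt_top_of_nontrivial G).ne hperf
  -- determinants
  obtain ⟨γ, hγ⟩ := hEcyc.exists_generator
  -- `E` fixes exactly one point, apart from regular orbits
  have hperm : ∀ a : E, (Nat.card (fixedBy α (a : G)) : ℂ) =
      (t : ℂ) * ∑ l : E →* ℂˣ, (l a : ℂ) + ((1 : E →* ℂˣ) a : ℂ) := by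
    intro a
    rw [sum_dual_apply]
    by_cases ha : a = 1
    · subst ha
      rw [if_pos rfl, OneMemClass.coe_one, MulAction.fixedBy_one_eq_univ,
        Nat.card_congr (Equiv.Set.univ α), Nat.card_eq_fintype_card (α := α), hα, ← ht]
      simp
    · rw [if_neg ha, mul_zero, zero_add, MonoidHom.one_apply, Units.val_one, Nat.cast_eq_one,
        Nat.card_eq_one_iff_unique]
      have haQ : (a : G) ∉ Q := fun h => ha (Subtype.ext (hdisj _ a.2 h))
      refine ⟨⟨fun x y => Subtype.ext ?_⟩, ?_⟩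
      · obtain ⟨v, hv, hvx⟩ := hQtrans x.1 y.1
        have hconj : (a : G) * v * (a : G)⁻¹ ∈ Q := (Subgroup.mem_normalizer_iff.1 (hEN a.2) v).1 hv
        have h1 : ((a : G) * v * (a : G)⁻¹) • x.1 = v • x.1 := by
          conv_lhs => rw [← (show (a : G) • x.1 = x.1 from x.2), mul_smul, mul_smul, inv_smul_smul, hvx]
          rw [hvx]; exact y.2
        have h2 : v⁻¹ * ((a : G) * v * (a : G)⁻¹) = 1 :=
          hQreg _ (Q.mul_mem (Q.inv_mem hv) hconj) x.1 (by rw [mul_smul, h1, inv_smul_smul])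
        by_cases hv1 : v = 1
        · rw [← hvx, hv1, one_smul]
        · exact absurd (eq_one_of_commute hP hC hv hv1 (show Commute v (a : G) from
            (mul_inv_eq_iff_eq_mul.1 (inv_mul_eq_one.1 h2).symm).symm)) haQ
      · obtain ⟨z, hz, hza⟩ := hQtrans a₀ ((a : G)⁻¹ • a₀)
        obtain ⟨b, -, hb⟩ := exists_conj_eq_mul hP hC (hEN a.2) haQ hz
        refine ⟨⟨b⁻¹ • a₀, ?_⟩⟩
        show (a : G) • b⁻¹ • a₀ = b⁻¹ • a₀
        have h1 : ((a : G) * z) • a₀ = a₀ := by rw [mul_smul, hza, smul_inv_smul]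
        rw [← hb, mul_smul, mul_smul] at h1
        exact (eq_inv_smul_iff.2 h1)
  obtain ⟨dπ, hdπ⟩ := BlockB.DetCalculus.exists_hasDet (Perm.isCharacter_permChar (G := G) (Ω := α))
  have h1 := (hdπ.comp E.subtype).unique (det_copies (A := E) t 1
    (f := Perm.permChar G α ∘ E.subtype) fun a => hperm a)
  rw [hlin dπ] at h1
  have hone1 : (1 : G →* ℂˣ).comp E.subtype = 1 := rfl
  rw [hone1] at h1
  have h1' : ∀ x : E, ((∏ l : E →* ℂˣ, l) ^ t) x = 1 := fun x => by
    have h := congrArg (fun l : E →* ℂˣ => l x) h1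
    simpa using h.symm
  obtain ⟨d₀, hd₀⟩ := BlockB.DetCalculus.exists_hasDet (Char.irr_isCharacter χ₀.2)
  have h2 := (hd₀.comp E.subtype).unique (det_copies (A := E) t μ
    (f := (χ₀ : G → ℂ) ∘ E.subtype) fun a => hμ a)
  rw [hlin d₀, hone1] at h2
  have h2' : ∀ x : E, μ x = 1 := fun x => by
    have h := congrArg (fun l : E →* ℂˣ => l x) h2
    simp only [MonoidHom.mul_apply, MonoidHom.one_apply, h1', one_mul] at h
    exact h.symm
  have htdvd : 2 * Nat.card E ∣ p - 1 := by
    have ht2 : 2 ∣ t := by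
      by_cases heven : 2 ∣ Nat.card E
      · obtain ⟨ν, hν, hν2, hprod⟩ := exists_sign hγ heven
        by_contra hodd
        obtain ⟨k, hk⟩ : ∃ k, t = 2 * k + 1 := ⟨t / 2, by omega⟩
        have h3 := congrArg Units.val (h1' γ)
        simp only [hprod, Units.val_one, MonoidHom.pow_apply, Units.val_pow_eq_pow_val,
          hk] at h3
        rw [hν, pow_succ, pow_mul, neg_one_sq, one_pow] at h3
        norm_num at h3
      · have hpodd : p % 2 = 1 := hp.eq_two_or_odd.resolve_left (by
          rintro rfl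
          have : t * Nat.card E = 1 := by omega
          have := Nat.eq_one_of_mul_eq_one_left this
          omega)
        have h3 : 2 ∣ t * Nat.card E := by omega
        exact ((Nat.prime_two.dvd_mul).1 h3).resolve_right heven
    obtain ⟨k, rfl⟩ := ht2
    exact ⟨k, by rw [ht']; ring⟩
  refine ⟨χ₀, hperf, hsimple, hP, hC, hEcyc, hEN, hdisj, hcardN, he2, htdvd, hNE, ?_, hdeg,
    fun χ hχ => hχ₀u χ ?_, fun a ha ha1 => ?_, hvP⟩
  · intro g hg a ha hga
    have hmem : g * a * g⁻¹ ∈ E ⊓ E.map (MulAut.conj g).toMonoidHom :=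
      Subgroup.mem_inf.2 ⟨hga, Subgroup.mem_map.2 ⟨a, ha, rfl⟩⟩
    rw [hTI g hg, Subgroup.mem_bot] at hmem
    simpa using hmem
  · rw [← BlockB.irr_degree_cast χ] at hχ
    exact_mod_cast hχ
  · rw [hvE ⟨a, ha⟩ (fun h => ha1 (congrArg Subtype.val h)), h2', Units.val_one]

end CfsgLib.Block.PrimeTI
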