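import Cfsg.Agent.Lib.Block.PrimeTI.Induced
import Cfsg.Agent.Lib.Transfer.SimpleCount

/-!
The element normalizing the trivial-intersection complement from outside: by transfer it fixes no
element of odd prime order, and it does not centralize a complement of order at least four.
-/

set_option autoImplicit false
set_option linter.unusedSectionVars false

namespace CfsgLib.Block.PrimeTI

open Cfsg CfsgLib CfsgLib.Block Subgroup

universe u

variable {G : Type u} [Group G] [Finite G] {p : ℕ} [Fact p.Prime] {P : Sylow p G} {E : Subgroup G}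
  {χ₀ : IrrCharacter G} {s : G}

theorem Setting.not_isMulCommutative (S : Setting p P E χ₀) : ¬ IsMulCommutative G := by
  intro h
  haveI := S.simple
  haveI : Nontrivial G := IsSimpleGroup.toNontrivial
  have h1 : commutator G = ⊥ := by
    rw [_root_.commutator_def, Subgroup.commutator_eq_bot_iff_le_centralizer]
    exact fun x _ => Subgroup.mem_centralizer_iff.2 fun y _ => h.1.comm y x
  exact bot_ne_top (h1.symm.trans S.perf)

theorem Setting.mem_of_conj (S : Setting p P E χ₀) {g a : G} (ha : a ∈ E) (ha1 : a ≠ 1)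
    (hga : g * a * g⁻¹ ∈ E) : g ∈ Subgroup.normalizer (E : Set G) := by
  by_contra hg
  exact ha1 (S.ti g hg a ha hga)

variable [IsMulCommutative E]

theorem sub_mul_comm {a b : G} (ha : a ∈ E) (hb : b ∈ E) : a * b = b * a :=
  congrArg Subtype.val (mul_comm' (⟨a, ha⟩ : E) ⟨b, hb⟩)

/-- The outer element fixes no element of odd prime order. -/
theorem no_fixed (S : Setting p P E χ₀) (hs : Outer E s) {q : ℕ} [Fact q.Prime] (hq2 : q ≠ 2)
    (b : E) (hb : orderOf b = q) (hfix : conjE hs b = b) : False := by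
  classical
  have hq := (Fact.out : q.Prime)
  haveI := S.cycE
  haveI := S.simple
  obtain ⟨R⟩ : Nonempty (Sylow q E) := inferInstance
  set Q : Subgroup G := (R : Subgroup E).map E.subtype with hQ
  have hQE : Q ≤ E := Subgroup.map_subtype_le _
  set n := (Nat.card E).factorization q with hn
  have hQcard : Nat.card Q = q ^ n := by
    rw [hQ, Nat.card_congr ((R : Subgroup E).equivMapOfInjective E.subtype E.subtype_injective).toEquiv.symm,
      Sylow.card_eq_multiplicity]
  -- `s` centralizes the `q`-part of `E`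
  have hfixQ : ∀ x : E, x ∈ (R : Subgroup E) → conjE hs x = x := by
    intro x hx
    by_contra hne
    set y : E := x⁻¹ * conjE hs x with hy
    have hy1 : y ≠ 1 := fun h => hne (inv_mul_eq_one.1 h).symm
    have hyinv : conjE hs y = y⁻¹ := by
      simp only [hy, map_mul, map_inv, conjE_conjE hs S.cardNE, mul_inv_rev, inv_inv]
    obtain ⟨k, hk⟩ : ∃ k : ℕ, x ^ q ^ k = 1 :=
      ⟨n, by
        have h := pow_card_eq_one' (x := (⟨x, hx⟩ : (R : Subgroup E)))
        rw [Sylow.card_eq_multiplicity] at h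
        exact congrArg Subtype.val h⟩
    have hyk : y ^ q ^ k = 1 := by
      rw [hy, (show Commute x⁻¹ (conjE hs x) from mul_comm' _ _).mul_pow, inv_pow, ← map_pow, hk, map_one, inv_one, mul_one]
    obtain ⟨j, -, hj⟩ := (Nat.dvd_prime_pow hq).1 (orderOf_dvd_of_pow_eq_one hyk)
    have hj0 : j ≠ 0 := fun h => hy1 (orderOf_eq_one_iff.1 (by rw [hj, h, pow_zero]))
    obtain ⟨i, rfl⟩ := Nat.exists_eq_succ_of_ne_zero hj0
    set b' : E := y ^ q ^ i with hb'
    have hb'o : orderOf b' = q := by
      rw [hb', orderOf_pow' _ (pow_ne_zero _ hq.ne_zero), hj, Nat.gcd_eq_right (pow_dvd_pow q i.le_succ),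
        pow_succ, Nat.mul_div_cancel_left _ (pow_pos hq.pos i)]
    -- both lie in the subgroup of order `q`
    have hmem : b' ∈ Subgroup.zpowers b := by
      by_contra hmem
      haveI := Fintype.ofFinite E
      have hle := IsCyclic.card_pow_eq_one_le (α := E) hq.pos
      have hsub : insert b' ((Finset.univ : Finset E).filter fun x => x ∈ Subgroup.zpowers b) ⊆
          Finset.univ.filter fun x => x ^ q = 1 := by
        intro x hx
        refine Finset.mem_filter.2 ⟨Finset.mem_univ _, ?_⟩
        rcases Finset.mem_insert.1 hx with rfl | hx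
        · rw [← hb'o, pow_orderOf_eq_one]
        · obtain ⟨j, rfl⟩ := Subgroup.mem_zpowers_iff.1 (Finset.mem_filter.1 hx).2
          rw [← zpow_natCast, ← zpow_mul, mul_comm, zpow_mul, zpow_natCast, ← hb, pow_orderOf_eq_one, one_zpow]
      have h1 := (Finset.card_le_card hsub).trans hle
      rw [Finset.card_insert_of_notMem (fun h => hmem (Finset.mem_filter.1 h).2), ← Fintype.card_subtype,
        ← Nat.card_eq_fintype_card] at h1
      have h2 : Nat.card (Subgroup.zpowers b) = q := (Nat.card_zpowers b).trans hb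
      omega
    obtain ⟨l, hl⟩ := Subgroup.mem_zpowers_iff.1 hmem
    have h1 : conjE hs b' = b' := by rw [← hl, map_zpow, hfix]
    have h2 : conjE hs b' = b'⁻¹ := by rw [hb', map_pow, hyinv, inv_pow]
    have h3 : orderOf b' ∣ 2 := orderOf_dvd_of_pow_eq_one (by
      rw [pow_two]; nth_rewrite 1 [← h1]; rw [h2, inv_mul_cancel])
    rw [hb'o] at h3
    exact hq2 ((Nat.prime_dvd_prime_iff_eq hq Nat.prime_two).1 h3)
  -- `Q` is a Sylow subgroup of `G`
  have hQne : ∃ a ∈ Q, a ≠ 1 := by
    refine Subgroup.bot_or_exists_ne_one _ |>.resolve_left fun h => ?_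
    rw [h, Subgroup.card_bot] at hQcard
    have h1 : q ∣ Nat.card E := hb ▸ orderOf_dvd_natCard b
    have h2 := hq.factorization_pos_of_dvd Nat.card_pos.ne' h1
    rw [← hn] at h2
    exact Nat.ne_of_lt (Nat.one_lt_pow h2.ne' hq.one_lt) hQcard
  obtain ⟨a, haQ, ha1⟩ := hQne
  have hNQ : Subgroup.normalizer (Q : Set G) ≤ Subgroup.normalizer (E : Set G) := fun g hg =>
    S.mem_of_conj (hQE haQ) ha1 (hQE ((Subgroup.mem_normalizer_iff.1 hg a).1 haQ))
  have hsyl : Nat.card Q = q ^ (Nat.card G).factorization q := by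
    rw [hQcard]
    refine congrArg _ (le_antisymm ?_ ?_)
    · exact (hq.pow_dvd_iff_le_factorization Nat.card_pos.ne').1
        (hQcard ▸ Subgroup.card_subgroup_dvd_card Q)
    · by_contra hlt
      have hdvd : q ^ (n + 1) ∣ Nat.card G :=
        (pow_dvd_pow q (by omega)).trans (Nat.ordProj_dvd _ _)
      have h := (Sylow.prime_pow_dvd_card_normalizer hdvd hQcard).trans (Subgroup.card_dvd_of_le hNQ)
      rw [S.cardNE] at h
      have h2 := (Nat.Coprime.pow_left (n + 1) ((Nat.coprime_primes hq Nat.prime_two).2 hq2)).dvd_of_dvd_mul_left h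
      exact absurd ((hq.pow_dvd_iff_le_factorization Nat.card_pos.ne').1 h2) (by omega)
  let T : Sylow q G := Sylow.ofCard Q hsyl
  have hTQ : (T : Subgroup G) = Q := rfl
  have hqG : q ∣ Nat.card G :=
    (hb ▸ orderOf_dvd_natCard b).trans (Subgroup.card_subgroup_dvd_card E)
  refine Transfer.not_normalizer_le_centralizer S.not_isMulCommutative hqG T ?_
  rw [hTQ]
  intro g hg
  refine Subgroup.mem_centralizer_iff.2 fun x hx => ?_
  have hxE := hQE hx
  by_cases hgE : g ∈ E
  · exact sub_mul_comm hxE hgE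
  obtain ⟨c, hc, rfl⟩ := hs.split S.cardNE (hNQ hg) hgE
  obtain ⟨x', hx', rfl⟩ := Subgroup.mem_map.1 hx
  have h1 : s * (x' : G) * s⁻¹ = x' := congrArg Subtype.val (hfixQ x' hx')
  rw [E.subtype_apply, ← mul_assoc]
  calc (x' : G) * s * c = s * x' * c := by rw [mul_inv_eq_iff_eq_mul.1 h1]
    _ = s * c * x' := by rw [mul_assoc, sub_mul_comm x'.2 hc, ← mul_assoc]

/-- In odd order the outer element inverts the complement. -/
theorem conjE_eq_inv (S : Setting p P E χ₀) (hs : Outer E s) (hodd : Odd (Nat.card E)) (a : E) :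
    conjE hs a = a⁻¹ := by
  haveI := S.cycE
  by_contra hne
  set y : E := a * conjE hs a with hy
  have hy1 : y ≠ 1 := fun h => hne (eq_inv_of_mul_eq_one_right h)
  have hyfix : conjE hs y = y := by
    rw [hy, map_mul, conjE_conjE hs S.cardNE, mul_comm']
  have hq := Nat.minFac_prime (n := orderOf y) (fun h => hy1 (orderOf_eq_one_iff.1 h))
  haveI := Fact.mk hq
  set q := (orderOf y).minFac
  have hdvd : q ∣ orderOf y := Nat.minFac_dvd _
  refine no_fixed S hs (q := q) ?_ (y ^ (orderOf y / q)) (orderOf_pow_orderOf_div (orderOf_pos y).ne' hdvd)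
    (by rw [map_pow, hyfix])
  intro h2
  have h3 : 2 ∣ Nat.card E := h2 ▸ hdvd.trans (orderOf_dvd_natCard y)
  exact hodd.not_two_dvd_nat h3

/-- For a complement of order at least four the outer element is not central. -/
theorem exists_moved (S : Setting p P E χ₀) (hs : Outer E s) (h3 : 3 ≤ Nat.card E) :
    ∃ a : E, conjE hs a ≠ a := by
  classical
  haveI := S.cycE
  haveI := S.simple
  by_contra hall
  push Not at hall
  by_cases hodd : ∃ q, q.Prime ∧ q ∣ Nat.card E ∧ q ≠ 2
  · obtain ⟨q, hq, hqE, hq2⟩ := hodd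
    haveI := Fact.mk hq
    obtain ⟨b, hb⟩ := exists_prime_orderOf_dvd_card' q hqE
    exact no_fixed S hs hq2 b hb (hall b)
  push Not at hodd
  obtain ⟨k, hk⟩ : ∃ k, Nat.card E = 2 ^ k :=
    ⟨_, Nat.eq_prime_pow_of_unique_prime_dvd Nat.card_pos.ne' fun {d} hd hdE => hodd d hd hdE⟩
  have hk2 : 2 ≤ k := by
    by_contra h
    interval_cases k <;> simp_all
  obtain ⟨c, hc⟩ := S.cycE.exists_generator
  have hco : orderOf c = 2 ^ k := (orderOf_eq_card_of_forall_mem_zpowers hc).trans hk
  set N := Subgroup.normalizer (E : Set G) with hN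
  have hcomm : ∀ x ∈ N, ∀ y ∈ N, x * y = y * x := by
    have hsc : ∀ b ∈ E, s * b = b * s := fun b hb =>
      mul_inv_eq_iff_eq_mul.1 (congrArg Subtype.val (hall ⟨b, hb⟩))
    intro x hx y hy
    by_cases hxE : x ∈ E
    · by_cases hyE : y ∈ E
      · exact sub_mul_comm hxE hyE
      obtain ⟨d, hd, rfl⟩ := hs.split S.cardNE hy hyE
      rw [← mul_assoc, ← hsc x hxE, mul_assoc, sub_mul_comm hxE hd, mul_assoc]
    obtain ⟨d, hd, rfl⟩ := hs.split S.cardNE hx hxE
    by_cases hyE : y ∈ E
    · rw [mul_assoc, sub_mul_comm hd hyE, ← mul_assoc, ← mul_assoc, hsc y hyE]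
    obtain ⟨d', hd', rfl⟩ := hs.split S.cardNE hy hyE
    exact (((Commute.refl s).mul_right (hsc d' hd')).mul_left
      ((show Commute d s from (hsc d hd).symm).mul_right (sub_mul_comm hd hd'))).eq
  have hsq : ∀ x ∈ N, x * x ∈ E := fun x hx => by
    by_cases hxE : x ∈ E
    · exact E.mul_mem hxE hxE
    obtain ⟨d, hd, rfl⟩ := hs.split S.cardNE hx hxE
    have h : s * d * (s * d) = s * s * (d * d) := by
      rw [show s * d * (s * d) = s * (d * s) * d by group, hcomm d (Subgroup.le_normalizer hd) s hs.mem]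
      group
    rw [h]
    exact E.mul_mem (hs.sq_mem S.cardNE) (E.mul_mem hd hd)
  -- the normalizer is a Sylow `2`-subgroup
  have hcardN : Nat.card N = 2 ^ (k + 1) := by rw [hN, S.cardNE, hk, pow_succ']
  set z : E := c ^ 2 ^ (k - 1) with hz
  have hzo : orderOf z = 2 := by
    rw [hz, orderOf_pow' _ (pow_ne_zero _ (by norm_num)), hco,
      Nat.gcd_eq_right (pow_dvd_pow 2 (Nat.sub_le k 1))]
    obtain ⟨j, rfl⟩ : ∃ j, k = j + 1 := ⟨k - 1, by omega⟩
    rw [pow_succ, Nat.add_sub_cancel, Nat.mul_div_cancel_left _ (pow_pos two_pos j)]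
  set h : E := c ^ 2 ^ (k - 2) with hh
  have hhz : h * h = z := by
    rw [hh, hz, ← pow_add]
    congr 1
    obtain ⟨j, rfl⟩ : ∃ j, k = j + 2 := ⟨k - 2, by omega⟩
    rw [Nat.add_sub_cancel, show j + 2 - 1 = j + 1 by omega, pow_succ]
    ring
  have hNN : Subgroup.normalizer (N : Set G) ≤ N := by
    intro g hg
    have hgh : g * (h : G) * g⁻¹ ∈ N :=
      (Subgroup.mem_normalizer_iff.1 hg _).1 (Subgroup.le_normalizer h.2)
    refine S.mem_of_conj z.2 (fun hz1 => ?_) ?_
    · have : z = 1 := Subtype.ext hz1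
      rw [this, orderOf_one] at hzo; omega
    · have h1 : g * (z : G) * g⁻¹ = (g * (h : G) * g⁻¹) * (g * (h : G) * g⁻¹) := by
        rw [← hhz, Subgroup.coe_mul]; group
      rw [h1]
      exact hsq _ hgh
  have hsyl : Nat.card N = 2 ^ (Nat.card G).factorization 2 := by
    rw [hcardN]
    refine congrArg _ (le_antisymm ?_ ?_)
    · exact (Nat.prime_two.pow_dvd_iff_le_factorization Nat.card_pos.ne').1
        (hcardN ▸ Subgroup.card_subgroup_dvd_card N)
    · by_contra hlt
      have hdvd : 2 ^ (k + 1 + 1) ∣ Nat.card G :=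
        (pow_dvd_pow 2 (by omega)).trans (Nat.ordProj_dvd _ _)
      have h4 := (Sylow.prime_pow_dvd_card_normalizer hdvd hcardN).trans (Subgroup.card_dvd_of_le hNN)
      rw [hcardN] at h4
      exact absurd ((Nat.pow_dvd_pow_iff_le_right (by norm_num)).1 h4) (by omega)
  let T : Sylow 2 G := Sylow.ofCard N hsyl
  have h2G : 2 ∣ Nat.card G := (dvd_pow_self 2 k.succ_ne_zero).trans
    (hcardN ▸ Subgroup.card_subgroup_dvd_card N)
  refine Transfer.not_normalizer_le_centralizer S.not_isMulCommutative h2G T ?_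
  exact fun g hg => Subgroup.mem_centralizer_iff.2 fun x hx => hcomm x hx g (hNN hg)

end CfsgLib.Block.PrimeTI
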