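import Cfsg.Agent.Lib.Block.PrimeTI.Family
import Cfsg.Agent.Lib.Block.PrimeTI.Transfer
import Cfsg.Agent.Lib.BlockB.GaloisAvg

/-!
Odd complements: the constituents of degree `p + 1` and the function `Θ`, one plus their sum.
-/

set_option autoImplicit false
set_option linter.unusedSectionVars false

namespace CfsgLib.Block.PrimeTI

open Cfsg CfsgLib CfsgLib.Block BrauerReynolds
open scoped ComplexConjugate

universe u

variable {G : Type u} [Group G] [Fintype G] {p : ℕ} [Fact p.Prime] {P : Sylow p G} {E : Subgroup G}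
  {χ₀ : IrrCharacter G} {s : G}

/-- The constituents other than the two common ones. -/
noncomputable def Hset (E : Subgroup G) (χ₀ : IrrCharacter G) [Fintype (IrrCharacter G)] :
    Finset (IrrCharacter G) :=
  open Classical in
  Finset.univ.filter fun χ => χ ≠ one' ∧ χ ≠ χ₀ ∧ ∃ l : E →* ℂˣ, coef l χ ≠ 0

/-- One plus their sum. -/
noncomputable def Theta (E : Subgroup G) (χ₀ : IrrCharacter G) [Fintype (IrrCharacter G)] : G → ℂ :=
  fun g => 1 + ∑ η ∈ Hset E χ₀, (η : G → ℂ) g

theorem Theta_isClassFunction [Fintype (IrrCharacter G)] :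
    IsClassFunction G (Theta E χ₀) := fun g h => by
  simp only [Theta]
  congr 1
  exact Finset.sum_congr rfl fun η _ => Char.irr_isClassFunction η.2 g h

theorem mem_Hset [Fintype (IrrCharacter G)] {χ : IrrCharacter G} :
    χ ∈ Hset E χ₀ ↔ χ ≠ one' ∧ χ ≠ χ₀ ∧ ∃ l : E →* ℂˣ, coef l χ ≠ 0 := by
  classical
  simp [Hset]

theorem Setting.not_dvd_card (S : Setting p P E χ₀) : ¬ p ∣ Nat.card E := fun h => by
  have h1 := Nat.le_of_dvd Nat.card_pos h
  have h2 := Nat.le_of_dvd (by have := (Fact.out : p.Prime).two_le; omega) S.even_t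
  have := (Fact.out : p.Prime).two_le
  omega

theorem Setting.orderOf_eq (S : Setting p P E χ₀) {u : G} (hu : u ∈ (P : Subgroup G)) (hu1 : u ≠ 1) :
    orderOf u = p := by
  have h := orderOf_dvd_natCard (⟨u, hu⟩ : (P : Subgroup G))
  rw [Subgroup.orderOf_mk, show Nat.card (P : Subgroup G) = p from S.cardP] at h
  exact ((Fact.out : p.Prime).eq_one_or_self_of_dvd _ h).resolve_left fun h => hu1 (orderOf_eq_one_iff.1 h)

/-- A nontrivial element of `P` is conjugate to no element of `E`. -/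
theorem Setting.conj_not_mem (S : Setting p P E χ₀) {u : G} (hu : u ∈ (P : Subgroup G)) (hu1 : u ≠ 1)
    (x : G) : x⁻¹ * u * x ∉ E := fun h => by
  have h1 := orderOf_dvd_natCard (⟨_, h⟩ : E)
  rw [Subgroup.orderOf_mk, show orderOf (x⁻¹ * u * x) = orderOf u by
    rw [show x⁻¹ * u * x = (MulAut.conj x⁻¹).toMonoidHom u by simp]
    exact orderOf_injective _ (MulAut.conj x⁻¹).injective u, S.orderOf_eq hu hu1] at h1
  exact S.not_dvd_card h1

section

variable (S : Setting p P E χ₀) (hs : Outer E s) (hodd : Odd (Nat.card E))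
  [Fintype E] [IsMulCommutative E] [Fintype (E →* ℂˣ)] [Fintype (IrrCharacter G)]
include S hs hodd

theorem twin_eq_inv (l : E →* ℂˣ) : twin hs l = l⁻¹ :=
  MonoidHom.ext fun a => by rw [twin_apply, conjE_eq_inv S hs hodd, map_inv]; rfl

theorem twin_ne (l : E →* ℂˣ) (hl : l ≠ 1) : twin hs l ≠ l := fun h => hl (by
  rw [twin_eq_inv S hs hodd] at h
  refine MonoidHom.ext fun a => ?_
  have h2 : l a * l a = 1 := by
    nth_rewrite 1 [← h]
    exact inv_mul_cancel _
  have h3 : l a ^ Nat.card E = 1 := by rw [← map_pow, pow_card_eq_one', map_one]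
  have h4 := pow_gcd_eq_one.2 ⟨(pow_two (l a)).trans h2, h3⟩
  rwa [show Nat.gcd 2 (Nat.card E) = 1 from (Nat.coprime_two_left.2 hodd), pow_one] at h4)

theorem coef_inv (l : E →* ℂˣ) (χ : IrrCharacter G) : coef l⁻¹ χ = coef l χ := by
  rw [← twin_eq_inv S hs hodd l, coef_twin hs S.cardNE]

/-- The shape of the constituents. -/
theorem Hset_shape {η : IrrCharacter G} (hη : η ∈ Hset E χ₀) :
    ∃ l : E →* ℂˣ, l ≠ 1 ∧ l⁻¹ ≠ l ∧ charDegree (η : G → ℂ) = p + 1 ∧ coef l η = -1 ∧
      coef l⁻¹ η = -1 ∧ (∀ m, m ≠ l → m ≠ l⁻¹ → coef m η = 0) ∧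
      ∀ χ, χ ≠ one' → χ ≠ χ₀ → coef l χ ≠ 0 → χ = η := by
  obtain ⟨h1, h0, l, hl⟩ := mem_Hset.1 hη
  have hl1 : l ≠ 1 := fun e => hl (e ▸ coef_one_left η)
  have hne := twin_ne S hs hodd l hl1
  obtain ⟨θ, hθ1, hθ0, hd, hk, hother⟩ := exists_eta S hs hl1 hne
  obtain rfl : η = θ := by
    by_contra hc; exact hl (hother η h1 h0 hc)
  have hex : ∀ m, m ≠ l → m ≠ l⁻¹ → coef m η = 0 := fun m hm hm' =>
    coef_excl S hs h1 h0 hl hm (by rwa [twin_eq_inv S hs hodd])
  rw [twin_eq_inv S hs hodd] at hne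
  exact ⟨l, hl1, hne, hd, hk, (coef_inv S hs hodd l η).trans hk, hex, fun χ hχ1 hχ0 hχ => by
    by_contra hc; exact hχ (hother χ hχ1 hχ0 hc)⟩

theorem sum_coef_Hset {l : E →* ℂˣ} (hl : l ≠ 1) : ∑ η ∈ Hset E χ₀, coef l η = -1 := by
  classical
  obtain ⟨θ, hθ1, hθ0, -, hk, hother⟩ := exists_eta S hs hl (twin_ne S hs hodd l hl)
  rw [Finset.sum_eq_single_of_mem θ (mem_Hset.2 ⟨hθ1, hθ0, l, by rw [hk]; omega⟩)]
  · exact hk
  · intro b hb hne
    obtain ⟨h1, h0, -⟩ := mem_Hset.1 hb
    exact hother b h1 h0 hne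

theorem two_mul_card_Hset : 2 * (Hset E χ₀).card + 1 = Nat.card E := by
  classical
  have h1 : ∀ η ∈ Hset E χ₀, ∑ l : E →* ℂˣ, coef l η = -2 := by
    intro η hη
    obtain ⟨l, hl1, hne, -, hk, hk', hex, -⟩ := Hset_shape S hs hodd hη
    rw [← Finset.sum_subset (Finset.subset_univ {l, l⁻¹}) fun m _ hm => by
      simp only [Finset.mem_insert, Finset.mem_singleton, not_or] at hm
      exact hex m hm.1 hm.2, Finset.sum_pair hne.symm, hk, hk']
    rfl
  have h2 : ∑ l : E →* ℂˣ, ∑ η ∈ Hset E χ₀, coef l η = -((Nat.card E : ℤ) - 1) := by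
    rw [← Finset.add_sum_erase _ _ (Finset.mem_univ (1 : E →* ℂˣ)),
      Finset.sum_eq_zero fun η _ => coef_one_left η, zero_add,
      Finset.sum_congr rfl fun l hl => sum_coef_Hset S hs hodd (Finset.mem_erase.1 hl).1,
      Finset.sum_const, Finset.card_erase_of_mem (Finset.mem_univ _), Finset.card_univ, card_dual,
      nsmul_eq_mul, Nat.cast_sub (Nat.card_pos (α := E))]
    ring
  rw [Finset.sum_comm, Finset.sum_congr rfl h1, Finset.sum_const, nsmul_eq_mul] at h2
  omega

/-- The constituents are real. -/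
theorem Hset_real {η : IrrCharacter G} (hη : η ∈ Hset E χ₀) (g : G) :
    (η : G → ℂ) g⁻¹ = (η : G → ℂ) g := by
  obtain ⟨l, hl1, -, hd, hk, -, -, huniq⟩ := Hset_shape S hs hodd hη
  let θ : IrrCharacter G := ⟨fun g => conj ((η : G → ℂ) g), Char.isIrrCharacter_conj η.2⟩
  have hcoef : ∀ m : E →* ℂˣ, coef m θ = coef m⁻¹ η := by
    intro m
    have h1 := coef_spec m θ
    have h2 := coef_spec m⁻¹ η
    rw [Phi_inner _ (Char.irr_isClassFunction θ.2)] at h1
    rw [Phi_inner _ (Char.irr_isClassFunction η.2)] at h2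
    have h3 : classInner (oneSub m) (fun a : E => (θ : G → ℂ) a) =
        classInner (oneSub m⁻¹) (fun a : E => (η : G → ℂ) a) := by
      rw [Char.classInner_def, Char.classInner_def]
      congr 1
      refine Fintype.sum_equiv (Equiv.inv E) _ _ fun a => ?_
      simp only [θ, Complex.conj_conj, Equiv.inv_apply, oneSub, MonoidHom.inv_apply, map_inv, inv_inv,
        InvMemClass.coe_inv]
      rw [irr_conj_eq η.2, inv_inv]
    rw [h3, h2] at h1
    exact_mod_cast h1.symm
  have hθd : (θ : G → ℂ) 1 = ((p + 1 : ℕ) : ℂ) := by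
    show conj ((η : G → ℂ) 1) = _
    rw [← BlockB.irr_degree_cast η, hd, map_natCast]
  have hθ1 : θ ≠ one' := fun e => by
    rw [e, one'_apply] at hθd
    have : 1 = p + 1 := by exact_mod_cast hθd
    exact (Fact.out : p.Prime).ne_zero (by omega)
  have hθ0 : θ ≠ χ₀ := fun e => by
    rw [e, S.deg] at hθd
    have : p = p + 1 := by exact_mod_cast hθd
    omega
  have h : θ = η := huniq θ hθ1 hθ0 (by rw [hcoef, coef_inv S hs hodd, hk]; omega)
  have h' := congrFun (congrArg Subtype.val h) g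
  simp only [θ] at h'
  rwa [irr_conj_eq η.2] at h'

theorem Hset_valE {η : IrrCharacter G} {a : E} (ha : a ≠ 1) :
    (η : G → ℂ) a = -∑ l : E →* ℂˣ, (coef l η : ℂ) * (l a : ℂ) := value_eq η ha

/-- The constituents are `1` on `P ∖ 1`. -/
theorem Hset_valP {η : IrrCharacter G} (hη : η ∈ Hset E χ₀) {u : G} (hu : u ∈ (P : Subgroup G))
    (hu1 : u ≠ 1) : (η : G → ℂ) u = 1 := by
  classical
  obtain ⟨l, hl1, -, -, hk, -, -, huniq⟩ := Hset_shape S hs hodd hη
  obtain ⟨h1, h0, -⟩ := mem_Hset.1 hη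
  have hz : Phi l u = 0 := by
    rw [Phi, Char.indFun_def, Finset.sum_eq_zero, mul_zero]
    exact fun x _ => Char.extendByZero_of_not_mem _ (S.conj_not_mem hu hu1 x)
  rw [Phi_expand, ← Finset.add_sum_erase _ _ (Finset.mem_univ (one' : IrrCharacter G)),
    ← Finset.add_sum_erase _ _ (Finset.mem_erase.2 ⟨(one_ne_chi S).symm, Finset.mem_univ χ₀⟩),
    Finset.sum_eq_single_of_mem η (Finset.mem_erase.2 ⟨h0, Finset.mem_erase.2 ⟨h1, Finset.mem_univ _⟩⟩)
      (fun χ hχ hne => by
        obtain ⟨hχ0, hχ'⟩ := Finset.mem_erase.1 hχ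
        obtain ⟨hχ1, -⟩ := Finset.mem_erase.1 hχ'
        by_cases hc : coef l χ = 0
        · rw [hc, Int.cast_zero, zero_mul]
        · exact absurd (huniq χ hχ1 hχ0 hc) hne),
    coef_trivial S hl1, coef_chi S hl1, hk, S.valP u hu hu1, one'_apply] at hz
  push_cast at hz
  linear_combination -hz

theorem Theta_E {a : E} (ha : a ≠ 1) : Theta E χ₀ (a : G) = 0 := by
  classical
  rw [Theta, Finset.sum_congr rfl fun η _ => Hset_valE S hs hodd ha, Finset.sum_neg_distrib,
    Finset.sum_comm, ← Finset.add_sum_erase _ _ (Finset.mem_univ (1 : E →* ℂˣ))]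
  have h : ∑ l ∈ (Finset.univ : Finset (E →* ℂˣ)).erase 1, ∑ η ∈ Hset E χ₀,
      (coef l η : ℂ) * (l a : ℂ) = 1 := by
    rw [Finset.sum_congr rfl fun l hl => by
      rw [← Finset.sum_mul, ← Int.cast_sum, sum_coef_Hset S hs hodd (Finset.mem_erase.1 hl).1,
        Int.cast_neg, Int.cast_one, neg_one_mul], Finset.sum_neg_distrib, sum_dual_erase_apply ha, neg_neg]
  rw [h, Finset.sum_eq_zero fun η _ => by rw [coef_one_left, Int.cast_zero, zero_mul]]
  ring

theorem Theta_P {u : G} (hu : u ∈ (P : Subgroup G)) (hu1 : u ≠ 1) :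
    Theta E χ₀ u = 1 + ((Hset E χ₀).card : ℂ) := by
  rw [Theta, Finset.sum_congr rfl fun η hη => Hset_valP S hs hodd hη hu hu1, Finset.sum_const,
    nsmul_eq_mul, mul_one]

theorem Hset_deg {η : IrrCharacter G} (hη : η ∈ Hset E χ₀) : (η : G → ℂ) 1 = (p : ℂ) + 1 := by
  obtain ⟨l, -, -, hd, -⟩ := Hset_shape S hs hodd hη
  rw [← BlockB.irr_degree_cast η, hd]; push_cast; rfl

/-- The sum of a constituent over the normalizer of `P`. -/
theorem Hset_sum_normalizer {η : IrrCharacter G} (hη : η ∈ Hset E χ₀) [Fintype (P : Subgroup G)] :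
    ∑ a : E, ∑ u : (P : Subgroup G), (η : G → ℂ) ((a : G) * (u : G)) = 0 := by
  classical
  obtain ⟨l, hl1, hne, -, hk, hk', hex, -⟩ := Hset_shape S hs hodd hη
  have hPc : Fintype.card (P : Subgroup G) = p := by rw [← Nat.card_eq_fintype_card]; exact S.cardP
  have h1 : ∑ u : (P : Subgroup G), (η : G → ℂ) (((1 : E) : G) * (u : G)) = 2 * (p : ℂ) := by
    rw [← Finset.add_sum_erase _ _ (Finset.mem_univ (1 : (P : Subgroup G))),
      Finset.sum_congr rfl fun u hu => by
        rw [OneMemClass.coe_one, one_mul, Hset_valP S hs hodd hη u.2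
          fun e => (Finset.mem_erase.1 hu).1 (Subtype.ext e)],
      OneMemClass.coe_one, OneMemClass.coe_one, one_mul, Hset_deg S hs hodd hη, Finset.sum_const,
      Finset.card_erase_of_mem (Finset.mem_univ _), Finset.card_univ, hPc, nsmul_eq_mul, mul_one,
      Nat.cast_sub (Fact.out : p.Prime).one_le]
    ring
  have h2 : ∀ a : E, a ≠ 1 → ∑ u : (P : Subgroup G), (η : G → ℂ) ((a : G) * (u : G)) =
      (p : ℂ) * (η : G → ℂ) (a : G) := by
    intro a ha
    have hu : ∀ u : (P : Subgroup G), (η : G → ℂ) ((a : G) * (u : G)) = (η : G → ℂ) (a : G) := fun u => by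
      obtain ⟨c, -, hc⟩ := exists_conj_eq_mul S.cardP S.cen (S.leN a.2)
        (fun h => ha (Subtype.ext (S.disj _ a.2 h))) u.2
      rw [← hc]; exact Char.irr_isClassFunction η.2 _ c
    rw [Finset.sum_congr rfl fun u _ => hu u, Finset.sum_const, Finset.card_univ, hPc, nsmul_eq_mul]
  rw [← Finset.add_sum_erase _ _ (Finset.mem_univ (1 : E)), h1,
    Finset.sum_congr rfl fun a ha => h2 a (Finset.mem_erase.1 ha).1, ← Finset.mul_sum]
  have h3 : ∑ a ∈ (Finset.univ : Finset E).erase 1, (η : G → ℂ) (a : G) = -2 := by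
    have h : ∀ m : E →* ℂˣ, m ≠ 1 → ∑ a ∈ (Finset.univ : Finset E).erase 1, (m a : ℂ) = -1 := by
      intro m hm
      rw [Finset.sum_erase_eq_sub (Finset.mem_univ _), sum_apply_eq, if_neg hm]; simp
    rw [Finset.sum_congr rfl fun a ha => value_eq η (Finset.mem_erase.1 ha).1, Finset.sum_neg_distrib,
      Finset.sum_comm, Finset.sum_congr rfl fun m _ => (Finset.mul_sum _ _ _).symm,
      ← Finset.sum_subset (Finset.subset_univ {l, l⁻¹}) (fun m _ hm => by
        simp only [Finset.mem_insert, Finset.mem_singleton, not_or] at hm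
        rw [hex m hm.1 hm.2, Int.cast_zero, zero_mul]),
      Finset.sum_pair hne.symm, hk, hk', h l hl1, h l⁻¹ (fun e => hl1 (MonoidHom.ext fun a => inv_eq_one.1 (DFunLike.congr_fun e a)))]
    norm_num
  rw [h3]; ring

/-- `Θ` is rational integer valued. -/
theorem Theta_int (g : G) : ∃ k : ℤ, Theta E χ₀ g = k := by
  classical
  have hn : Nat.card G ≠ 0 := Nat.card_pos.ne'
  have hcyc : BlockB.IsCyclo (Nat.card G) (fun k => Theta E χ₀ (g ^ k)) := by
    obtain ⟨Q, hQ⟩ := BlockB.IsCyclo.sum (Hset E χ₀) (f := fun η k => (η : G → ℂ) (g ^ k))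
      fun η _ => BlockB.isCyclo_char (Char.irr_isCharacter η.2) g
    refine ⟨1 + Q, fun k => ?_⟩
    rw [map_add, map_one, ← hQ k]
    rfl
  -- twice `Θ` in terms of the induced differences
  have hform : ∀ x : G, 2 * Theta E χ₀ x =
      2 + ((Nat.card E : ℂ) - 1) * (1 + (χ₀ : G → ℂ) x) -
        indFun E (fun a : E => ∑ l : E →* ℂˣ, oneSub l a) x := by
    intro x
    rw [show (fun a : E => ∑ l : E →* ℂˣ, oneSub l a) = ∑ l : E →* ℂˣ, oneSub l by
      funext a; rw [Finset.sum_apply], Char.indFun_sum, Finset.sum_apply]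
    have e : ∀ l : E →* ℂˣ, indFun E (oneSub l) x = (if l = 1 then 0 else 1 + (χ₀ : G → ℂ) x) +
        ∑ η ∈ Hset E χ₀, (coef l η : ℂ) * (η : G → ℂ) x := by
      intro l
      split_ifs with hl
      · subst hl
        rw [show oneSub (1 : E →* ℂˣ) = 0 from funext fun a => by simp [oneSub], Char.indFun_zero,
          Finset.sum_eq_zero fun η _ => by rw [coef_one_left, Int.cast_zero, zero_mul]]
        simp
      show Phi l x = _
      rw [Phi_expand, ← Finset.add_sum_erase _ _ (Finset.mem_univ (one' : IrrCharacter G)),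
        ← Finset.add_sum_erase _ _ (Finset.mem_erase.2 ⟨(one_ne_chi S).symm, Finset.mem_univ χ₀⟩),
        coef_trivial S hl, coef_chi S hl, one'_apply, Int.cast_one, one_mul, one_mul, ← add_assoc]
      congr 1
      refine (Finset.sum_subset (fun η hη => ?_) fun η hη hη' => ?_).symm
      · obtain ⟨h1, h0, -⟩ := mem_Hset.1 hη
        exact Finset.mem_erase.2 ⟨h0, Finset.mem_erase.2 ⟨h1, Finset.mem_univ _⟩⟩
      · obtain ⟨h0, h'⟩ := Finset.mem_erase.1 hη
        by_cases hc : coef l η = 0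
        · rw [hc, Int.cast_zero, zero_mul]
        · exact absurd (mem_Hset.2 ⟨(Finset.mem_erase.1 h').1, h0, l, hc⟩) hη'
    rw [Finset.sum_congr rfl fun l _ => e l, Finset.sum_add_distrib,
      Finset.sum_comm (f := fun (l : E →* ℂˣ) (η : IrrCharacter G) => (coef l η : ℂ) * (η : G → ℂ) x)]
    have h1 : ∑ l : E →* ℂˣ, (if l = 1 then 0 else 1 + (χ₀ : G → ℂ) x) =
        ((Nat.card E : ℂ) - 1) * (1 + (χ₀ : G → ℂ) x) := by
      rw [← Finset.add_sum_erase _ _ (Finset.mem_univ (1 : E →* ℂˣ)), if_pos rfl, zero_add,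
        Finset.sum_congr rfl fun l hl => if_neg (Finset.mem_erase.1 hl).1, Finset.sum_const,
        Finset.card_erase_of_mem (Finset.mem_univ _), Finset.card_univ, card_dual, nsmul_eq_mul,
        Nat.cast_sub (Nat.card_pos (α := E)), Nat.cast_one]
    have h2 : ∀ η ∈ Hset E χ₀, ∑ l : E →* ℂˣ, (coef l η : ℂ) * (η : G → ℂ) x = -2 * (η : G → ℂ) x := by
      intro η hη
      obtain ⟨l, hl1, hne, -, hk, hk', hex, -⟩ := Hset_shape S hs hodd hη
      rw [← Finset.sum_subset (Finset.subset_univ {l, l⁻¹}) fun m _ hm => by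
        simp only [Finset.mem_insert, Finset.mem_singleton, not_or] at hm
        rw [hex m hm.1 hm.2, Int.cast_zero, zero_mul], Finset.sum_pair hne.symm, hk, hk']
      push_cast; ring
    rw [h1, Finset.sum_congr rfl h2, ← Finset.mul_sum, Theta]
    ring
  have hinv : ∀ k : ℕ, k.Coprime (Nat.card G) → Theta E χ₀ (g ^ k) = Theta E χ₀ (g ^ 1) := by
    intro k hk
    rw [pow_one]
    refine mul_left_cancel₀ (two_ne_zero' ℂ) ?_
    rw [hform, hform]
    have hχ : (χ₀ : G → ℂ) (g ^ k) = (χ₀ : G → ℂ) g := by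
      have h := S.uniq (BlockB.galIrr hk χ₀) (by
        show (χ₀ : G → ℂ) (1 ^ k) = p
        rw [one_pow, S.deg])
      exact congrFun (congrArg Subtype.val h) g
    rw [hχ, Char.indFun_def, Char.indFun_def]
    congr 1
    congr 1
    refine Finset.sum_congr rfl fun x _ => ?_
    have hpw : x⁻¹ * g ^ k * x = (x⁻¹ * g * x) ^ k := by
      simpa using (conj_pow (a := x⁻¹) (b := g) (i := k)).symm
    rw [hpw]
    set y := x⁻¹ * g * x
    have hsum : ∀ b : E, ∑ l : E →* ℂˣ, oneSub l b =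
        if b = 1 then 0 else (Nat.card E : ℂ) := by
      intro b
      simp only [oneSub, Finset.sum_sub_distrib, Finset.sum_const, Finset.card_univ, card_dual,
        nsmul_eq_mul, mul_one, sum_dual_apply]
      split_ifs <;> ring
    have hbij := (powCoprime hk.symm).injective
    by_cases hy : y ∈ E
    · rw [Char.extendByZero_of_mem _ hy, Char.extendByZero_of_mem _ (E.pow_mem hy k), hsum, hsum]
      refine if_congr ⟨fun h => ?_, fun h => ?_⟩ rfl rfl
      · refine Subtype.ext (hbij (?_ : y ^ k = (1 : G) ^ k))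
        rw [one_pow]; exact congrArg Subtype.val h
      · refine Subtype.ext ?_
        show y ^ k = 1
        rw [show y = 1 from congrArg Subtype.val h, one_pow]
    · rw [Char.extendByZero_of_not_mem _ hy, Char.extendByZero_of_not_mem]
      intro h
      obtain ⟨j, hj⟩ := exists_pow_eq_self_of_coprime (x := y) (n := k)
        (hk.coprime_dvd_right (orderOf_dvd_natCard y))
      exact hy (hj ▸ E.pow_mem h j)
  obtain ⟨m, hm⟩ := hcyc.exists_int hn hinv
  exact ⟨m, by rw [← hm, pow_one]⟩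

end

end CfsgLib.Block.PrimeTI
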